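import Mathlib
import Cfsg.Agent.H140.OreO.Cls
import Cfsg.Agent.H141.SpinOdd
import Cfsg.Agent.H141.SpinTwo

/-!
# Membership in `Ω` is detected by `det`, the spinor sign (odd characteristic), the Dickson
invariant (characteristic two); `lev 1 g ∈ Ω(MQ n Q) → g ∈ Ω(Q)` (helper141, for Ore-Omega)
-/

set_option autoImplicit false
set_option linter.unusedSectionVars false

namespace Cfsg.Agent.H141.SpinFacts

open QuadraticMap Cfsg.Agent.LieClassical.OrthCore Cfsg.Agent.LieClassical.OrthTrans Matrix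
open Cfsg.Agent.LieClassical.OrthFinite
open Cfsg.Agent.H160.QSpin Cfsg.Agent.H140.OreO

variable {F V : Type*} [Field F] [AddCommGroup V] [Module F V] {n : ℕ} {Q : QuadraticForm F V}

/-- The class modulo the commutator subgroup. -/
abbrev pj (Q : QuadraticForm F V) : O Q →* Abelianization (O Q) := Abelianization.of

theorem pj_eq_one_iff (g : O Q) : pj Q g = 1 ↔ (g : V ≃ₗ[F] V) ∈ Om Q := by
  have h1 : Om Q = (_root_.commutator (O Q)).map (O Q).subtype := by
    rw [commutator_def, Subgroup.map_commutator, ← MonoidHom.range_eq_map, Subgroup.range_subtype]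
  have h2 : pj Q g = 1 ↔ g ∈ _root_.commutator (O Q) := by
    rw [← MonoidHom.mem_ker, Abelianization.ker_of]
  rw [h2, h1, Subgroup.mem_map]
  constructor
  · exact fun h => ⟨g, h, rfl⟩
  · rintro ⟨x, hx, hxg⟩
    rwa [← Subtype.ext (a1 := x) (a2 := g) hxg]

/-- The reflection as an element of `O Q`. -/
def rO (Q : QuadraticForm F V) (v : V) (hv : Q v ≠ 0) : O Q := ⟨refl Q v hv, refl_mem_O hv⟩

theorem rO_sq {v : V} (hv : Q v ≠ 0) : rO Q v hv * rO Q v hv = 1 := Subtype.ext (refl_mul_self hv)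

theorem pj_rO_sq {v : V} (hv : Q v ≠ 0) : pj Q (rO Q v hv) * pj Q (rO Q v hv) = 1 := by
  rw [← map_mul, rO_sq, map_one]

theorem pj_rO_eq (hG : Good Q) {v v' : V} (hv : Q v ≠ 0) (hv' : Q v' ≠ 0)
    (h : ∃ c : F, Q v' = c * c * Q v) : pj Q (rO Q v hv) = pj Q (rO Q v' hv') := by
  obtain ⟨c, hc⟩ := h
  have hc0 : c ≠ 0 := by
    rintro rfl
    exact hv' (by rw [hc]; ring)
  have h1 : Q (c • v) = Q v' := by rw [QuadraticMap.map_smul, smul_eq_mul, hc]
  have h2 : Q (c • v) ≠ 0 := by rw [h1]; exact hv'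
  have h3 := hG.refl_mul_refl_mem h2 hv' h1
  rw [← hG.commutator_eq_E, refl_smul hv hc0 h2] at h3
  have h4 : pj Q (rO Q v' hv' * rO Q v hv) = 1 := (pj_eq_one_iff _).2 h3
  rw [map_mul] at h4
  have h5 := pj_rO_sq hv
  exact mul_right_cancel (h5.trans h4.symm)

/-- The classes of reflections generate. -/
theorem pj_mem [FiniteDimensional F V] (hG : Good Q) (H : Subgroup (Abelianization (O Q)))
    (hH : ∀ (v : V) (hv : Q v ≠ 0), pj Q (rO Q v hv) ∈ H) (g : O Q) : pj Q g ∈ H := by
  have hcl : O Q = Subgroup.closure (reflSet Q ∪ siegelSet Q) := O_eq_closure hG.nondeg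
  have key : ∀ g ∈ Subgroup.closure (reflSet Q ∪ siegelSet Q), ∀ hg : g ∈ O Q, pj Q ⟨g, hg⟩ ∈ H := by
    intro g hgc
    induction hgc using Subgroup.closure_induction with
    | mem x hx =>
      intro hxO
      rcases hx with ⟨v, hv, rfl⟩ | ⟨u, w, hu, hw, rfl⟩
      · exact hH v hv
      · have h3 : pj Q ⟨siegel Q u w hu hw, hxO⟩ = 1 := by
          rw [pj_eq_one_iff, Om, hG.commutator_eq_E]
          exact siegel_mem_E hu hw
        rw [h3]
        exact H.one_mem
    | one =>
      intro h1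
      have : (⟨1, h1⟩ : O Q) = 1 := rfl
      rw [this, map_one]
      exact H.one_mem
    | mul x y hx hy ihx ihy =>
      intro hxy
      have hx' : x ∈ O Q := by rw [hcl]; exact hx
      have hy' : y ∈ O Q := by rw [hcl]; exact hy
      have : (⟨x * y, hxy⟩ : O Q) = ⟨x, hx'⟩ * ⟨y, hy'⟩ := rfl
      rw [this, map_mul]
      exact H.mul_mem (ihx hx') (ihy hy')
    | inv x hx ihx =>
      intro hxi
      have hx' : x ∈ O Q := by rw [hcl]; exact hx
      have : (⟨x⁻¹, hxi⟩ : O Q) = ⟨x, hx'⟩⁻¹ := rfl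
      rw [this, map_inv]
      exact H.inv_mem (ihx hx')
  obtain ⟨g, hg⟩ := g
  exact key g (by rw [← hcl]; exact hg) hg

theorem zpow_eq_of_sq {A : Type*} [Group A] {a : A} (ha : a * a = 1) (m : ℤ) :
    (Even m ∧ a ^ m = 1) ∨ (Odd m ∧ a ^ m = a) := by
  rcases Int.even_or_odd m with ⟨k, hk⟩ | ⟨k, hk⟩
  · left
    refine ⟨⟨k, hk⟩, ?_⟩
    rw [hk, ← two_mul, _root_.zpow_mul, _root_.zpow_two, ha, _root_.one_zpow]
  · right
    refine ⟨⟨k, hk⟩, ?_⟩
    rw [hk, _root_.zpow_add, _root_.zpow_mul, _root_.zpow_two, ha, _root_.one_zpow, _root_.zpow_one, one_mul]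

theorem exists_Q_eq (hG : Good Q) (c : F) : ∃ v, Q v = c := by
  obtain ⟨x, y, h⟩ := hG.exists_hyp
  refine ⟨x + c • y, ?_⟩
  rw [Q_add, h.left, QuadraticMap.map_smul, h.right, polar_smul_right, h.pair]
  simp

/-- **Odd characteristic**: `Ω` is the kernel of `det` and the spinor sign. -/
theorem mem_Om_of_odd [Finite F] [FiniteDimensional F V] [Finite V] (h2 : (2 : F) ≠ 0) (hG : Good Q)
    {g : V ≃ₗ[F] V} (hg : g ∈ O Q) (hdet : LinearEquiv.det g = 1) (hs : spin Q ⟨g, hg⟩ = 1) :
    g ∈ Om Q := by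
  classical
  have := Fintype.ofFinite F
  obtain ⟨ν, hν⟩ : ∃ ν : F, ¬ IsSquare ν := FiniteField.exists_nonsquare (by
    intro h
    exact h2 (by have := ringChar.spec F 2; exact (this.2 (by rw [h])).symm ▸ (this.2 (by rw [h]))))
  have hν0 : ν ≠ 0 := by rintro rfl; exact hν (IsSquare.zero)
  obtain ⟨a, ha⟩ := exists_Q_eq hG 1
  obtain ⟨b, hb⟩ := exists_Q_eq hG ν
  have ha0 : Q a ≠ 0 := by rw [ha]; exact one_ne_zero
  have hb0 : Q b ≠ 0 := by rw [hb]; exact hν0
  have h3 := pj_mem hG (Subgroup.closure {pj Q (rO Q a ha0), pj Q (rO Q b hb0)}) (by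
    intro v hv
    by_cases hsq : IsSquare (Q v)
    · obtain ⟨c, hc⟩ := hsq
      have : pj Q (rO Q v hv) = pj Q (rO Q a ha0) := (pj_rO_eq hG ha0 hv ⟨c, by
        rw [ha, hc, mul_one]⟩).symm
      rw [this]
      exact Subgroup.subset_closure (by simp)
    · have h5 : IsSquare (Q v * ν⁻¹) := by
        have h6 : chi (Q v * ν⁻¹) = 1 := by
          have h7 : chi ν⁻¹ * chi ν = 1 := by
            rw [← chi_mul (inv_ne_zero hν0) hν0, inv_mul_cancel₀ hν0, chi_eq_one_iff]
            exact IsSquare.one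
          have h8 : chi ν = -1 := by
            rcases Int.units_eq_one_or (chi ν) with h | h
            · exact absurd ((chi_eq_one_iff _).1 h) hν
            · exact h
          have h9 : chi (Q v) = -1 := by
            rcases Int.units_eq_one_or (chi (Q v)) with h | h
            · exact absurd ((chi_eq_one_iff _).1 h) hsq
            · exact h
          rw [chi_mul hv (inv_ne_zero hν0), h9]
          rw [h8] at h7
          rw [mul_comm]
          exact h7
        exact (chi_eq_one_iff _).1 h6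
      obtain ⟨c, hc⟩ := h5
      have : pj Q (rO Q v hv) = pj Q (rO Q b hb0) := (pj_rO_eq hG hb0 hv ⟨c, by
        rw [hb, ← hc, inv_mul_cancel_right₀ hν0]⟩).symm
      rw [this]
      exact Subgroup.subset_closure (by simp)) ⟨g, hg⟩
  rw [Subgroup.mem_closure_pair] at h3
  obtain ⟨m, k, hmk⟩ := h3
  -- the spinor sign
  have e1 : Abelianization.lift (spin Q) (pj Q (rO Q a ha0)) = -1 := by
    rw [Abelianization.lift_apply_of]
    have := spin_refl' h2 ha0
    rw [ha, (chi_eq_one_iff (1 : F)).2 IsSquare.one] at this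
    exact this
  have e2 : Abelianization.lift (spin Q) (pj Q (rO Q b hb0)) = 1 := by
    rw [Abelianization.lift_apply_of]
    have := spin_refl' h2 hb0
    have h8 : chi ν = -1 := by
      rcases Int.units_eq_one_or (chi ν) with h | h
      · exact absurd ((chi_eq_one_iff _).1 h) hν
      · exact h
    rw [hb, h8, neg_neg] at this
    exact this
  have e3 := congrArg (Abelianization.lift (spin Q)) hmk
  rw [map_mul, map_zpow, map_zpow, e1, e2, _root_.one_zpow, mul_one, Abelianization.lift_apply_of, hs] at e3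
  let dt : O Q →* Fˣ := LinearEquiv.det.comp (O Q).subtype
  have e4 : Abelianization.lift dt (pj Q (rO Q a ha0)) = -1 := by
    rw [Abelianization.lift_apply_of]
    exact det_refl ha0
  have e5 : Abelianization.lift dt (pj Q (rO Q b hb0)) = -1 := by
    rw [Abelianization.lift_apply_of]
    exact det_refl hb0
  have e6 := congrArg (Abelianization.lift dt) hmk
  rw [map_mul, map_zpow, map_zpow, e4, e5, Abelianization.lift_apply_of] at e6
  have e7 : dt ⟨g, hg⟩ = 1 := hdet
  rw [e7] at e6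
  have hm1 : (-1 : Fˣ) ≠ 1 := by
    intro h
    have h6 : (-1 : F) = 1 := by
      have := congrArg Units.val h
      simpa using this
    apply h2
    linear_combination (-1 : F) * h6
  have h4 : pj Q ⟨g, hg⟩ = 1 := by
    rw [← hmk]
    rcases zpow_eq_of_sq (pj_rO_sq ha0) m with ⟨hm, h⟩ | ⟨hm, h⟩
    · rcases zpow_eq_of_sq (pj_rO_sq hb0) k with ⟨hk, h'⟩ | ⟨hk, h'⟩
      · rw [h, h', one_mul]
      · exfalso
        rw [hm.neg_one_zpow, hk.neg_one_zpow, one_mul] at e6
        exact hm1 e6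
    · exfalso
      rw [hm.neg_one_zpow] at e3
      exact absurd e3 (by decide)
  exact (pj_eq_one_iff _).1 h4

/-- **Characteristic two**: `Ω` is the kernel of the Dickson invariant. -/
theorem mem_Om_of_two [Finite F] [FiniteDimensional F V] (h2 : (2 : F) = 0) (hG : Good Q)
    {g : V ≃ₗ[F] V} (hg : g ∈ O Q) (hr : Even (rk g)) : g ∈ Om Q := by
  have := Fintype.ofFinite F
  obtain ⟨a, ha⟩ := exists_Q_eq hG 1
  have ha0 : Q a ≠ 0 := by rw [ha]; exact one_ne_zero
  have h3 := pj_mem hG (Subgroup.zpowers (pj Q (rO Q a ha0))) (by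
    intro v hv
    have : IsSquare (Q v) := by
      have : CharP F 2 := CharTwo.of_one_ne_zero_of_two_eq_zero one_ne_zero h2
      exact FiniteField.isSquare_of_char_two (ringChar.eq F 2) (Q v)
    obtain ⟨c, hc⟩ := this
    have : pj Q (rO Q v hv) = pj Q (rO Q a ha0) := (pj_rO_eq hG ha0 hv ⟨c, by
        rw [ha, hc, mul_one]⟩).symm
    rw [this]
    exact Subgroup.mem_zpowers _) ⟨g, hg⟩
  obtain ⟨m, hm⟩ := Subgroup.mem_zpowers_iff.1 h3
  have e1 : Abelianization.lift (dick h2 hG.nondeg) (pj Q (rO Q a ha0)) = -1 := by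
    rw [Abelianization.lift_apply_of]
    exact dick_refl h2 hG.nondeg ha0
  have e3 := congrArg (Abelianization.lift (dick h2 hG.nondeg)) hm
  have e4 : dick h2 hG.nondeg ⟨g, hg⟩ = 1 := (dick_eq_one_iff h2 hG.nondeg _).2 hr
  rw [map_zpow, e1, Abelianization.lift_apply_of, e4] at e3
  have h4 : pj Q ⟨g, hg⟩ = 1 := by
    rw [← hm]
    rcases zpow_eq_of_sq (pj_rO_sq ha0) m with ⟨hm, h⟩ | ⟨hm, h⟩
    · exact h
    · exfalso
      rw [hm.neg_one_zpow] at e3
      exact absurd e3 (by decide)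
  exact (pj_eq_one_iff _).1 h4

/-- Membership in `Ω` can be tested in the model space. -/
theorem Om_of_lev [Finite F] [FiniteDimensional F V] {Q : QuadraticForm F V} (hQ : Nondeg Q)
    (hd : 5 ≤ Module.finrank F V) {n : ℕ} {g : V ≃ₗ[F] V} (hg : g ∈ O Q)
    (h : lev (1 : GL (Fin n) F) g ∈ Om (MQ n Q)) : g ∈ Om Q := by
  have hG : Good Q := good_of_finite hQ hd
  by_cases h2 : (2 : F) = 0
  · apply mem_Om_of_two h2 hG hg
    have h3 := even_rk_of_mem h2 (nondeg_MQ hQ) h
    rwa [rk_levO] at h3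
  · have : Finite V := Module.finite_of_finite F
    have : Finite (M F V n) := inferInstance
    have h3 := hom_eq_one (spin (MQ n Q)) h (comm_le h)
    have h4 := spin_levO (n := n) h2 hQ ⟨g, hg⟩
    have h5 : levO n Q ⟨g, hg⟩ = ⟨lev 1 g, comm_le h⟩ := rfl
    rw [h5, h3] at h4
    have h6 := det_eq_one h
    rw [det_lev] at h6
    exact mem_Om_of_odd h2 hG hg (by simpa using h6) h4.symm

end Cfsg.Agent.H141.SpinFacts
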