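import Mathlib
import Cfsg.Agent.H140.OreO.Frame

/-!
# Reduction of a corner of size 4 in dimension 8 to a corner of size 3 (helper141, for Ore-Omega)

* `red43` : `A ∈ GL_4`, `det A = 1`, `A` not scalar, `2 ≤ rank (A - 1)`: some conjugate has a
  trailing `3 × 3` block `B₃` with `det B₃ = 1`, `2 ≤ rank (B₃ - 1)`;
* `frame_change`, `corner_change` : change of a frame by a matrix `P`;
* `schurOne_succ` : the Schur complement on the plane spanned by the dropped pair is `1`;
* `baseCorner_three` : `BaseCorner 4 Q g → BaseCorner' 3 Q g` for `finrank F V = 8`.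
-/

set_option autoImplicit false
set_option linter.unusedSectionVars false

namespace Cfsg.Agent.H141.Red43

open QuadraticMap Cfsg.Agent.LieClassical.OrthCore Cfsg.Agent.LieClassical.OrthTrans Matrix
open Cfsg.Agent.H140.OreO Module

section Lin

variable {F E : Type*} [Field F] [AddCommGroup E] [Module F E] [FiniteDimensional F E]

/-- A functional with `φ w = 0`, `φ p = 1`. -/
theorem exists_dual {w p : E} (h : p ∉ Submodule.span F {w}) :
    ∃ φ : E →ₗ[F] F, φ p = 1 ∧ φ w = 0 := by
  obtain ⟨f, hf, hw⟩ := Submodule.exists_le_ker_of_notMem h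
  refine ⟨(f p)⁻¹ • f, ?_, ?_⟩
  · rw [LinearMap.smul_apply, smul_eq_mul, inv_mul_cancel₀ hf]
  · have : f w = 0 := hw (Submodule.mem_span_singleton_self w)
    rw [LinearMap.smul_apply, this, smul_zero]

theorem fr_span_le (x : E) : finrank F (Submodule.span F {x}) ≤ 1 := by
  have := finrank_span_le_card (R := F) ({x} : Set E)
  simpa using this

theorem exists_pair (hE : finrank F E = 4) (a : E ≃ₗ[F] E) (hns : ∀ c : F, ∃ x, a x ≠ c • x)
    (hr : 2 ≤ finrank F (LinearMap.range ((a : E →ₗ[F] E) - 1))) :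
    ∃ (p : E) (φ : E →ₗ[F] F), φ p = 1 ∧ φ (a.symm p) = 1 ∧
      finrank F (LinearMap.ker φ ⊓ (Submodule.span F {p}).comap ((a : E →ₗ[F] E) - 1) :
        Submodule F E) ≤ 1 := by
  set N : E →ₗ[F] E := (a : E →ₗ[F] E) - 1 with hN
  have hNa : ∀ x, N x = a x - x := fun x => rfl
  have hrn := N.finrank_range_add_finrank_ker
  rw [hE] at hrn
  by_cases hsurj : LinearMap.range N = ⊤
  · have hinj : LinearMap.ker N = ⊥ := LinearMap.ker_eq_bot_iff_range_eq_top.2 hsurj
    obtain ⟨p, hp⟩ : ∃ p : E, LinearIndependent F ![p, a p] := by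
      by_contra hcon
      push Not at hcon
      obtain ⟨c, hc⟩ := LinearMap.exists_eq_smul_id_of_forall_notLinearIndependent
        (f := (a : E →ₗ[F] E)) hcon
      obtain ⟨x, hx⟩ := hns c
      apply hx
      have := LinearMap.congr_fun hc x
      simpa using this
    rw [LinearIndependent.pair_iff] at hp
    have hp0 : p ≠ 0 := by
      rintro rfl
      have := (hp 1 0 (by simp)).1
      exact one_ne_zero this
    have hpw : p ∉ Submodule.span F {a.symm p - p} := by
      intro h
      obtain ⟨c, hc⟩ := Submodule.mem_span_singleton.1 h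
      have h1 : c • (p - a p) = a p := by
        have := congrArg a hc
        rw [map_smul, map_sub, LinearEquiv.apply_symm_apply] at this
        exact this
      have h2 : c • p + (-(c + 1)) • a p = 0 := by
        have h3 : c • p + (-(c + 1)) • a p = c • (p - a p) - a p := by module
        rw [h3, h1, sub_self]
      obtain ⟨h3, h4⟩ := hp _ _ h2
      rw [h3] at h4
      norm_num at h4
    obtain ⟨φ, h1, h2⟩ := exists_dual hpw
    refine ⟨p, φ, h1, ?_, ?_⟩
    · rw [map_sub, h1] at h2
      exact (sub_eq_zero.1 h2)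
    · refine (Submodule.finrank_mono inf_le_right).trans ?_
      refine (LinearMap.finrank_le_finrank_of_injective (f := N.submoduleComap _) ?_).trans
        (fr_span_le p)
      intro x y hxy
      have h3 : N (x : E) = N (y : E) := congrArg Subtype.val hxy
      exact Subtype.ext (LinearMap.ker_eq_bot.1 hinj h3)
  · obtain ⟨p, hp⟩ : ∃ p, p ∉ LinearMap.range N := by
      by_contra hcon
      push Not at hcon
      exact hsurj (eq_top_iff.2 fun x _ => hcon x)
    have hw : a.symm p - p ∈ LinearMap.range N := by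
      refine ⟨-a.symm p, ?_⟩
      rw [hNa, map_neg, LinearEquiv.apply_symm_apply]
      abel
    have hpw : p ∉ Submodule.span F {a.symm p - p} := by
      intro h
      exact hp ((Submodule.span_singleton_le_iff_mem _ _).2 hw h)
    -- `K ≤ ker N`
    have hK : (Submodule.span F {p}).comap N ≤ LinearMap.ker N := by
      intro x hx
      obtain ⟨c, hc⟩ := Submodule.mem_span_singleton.1 hx
      rw [LinearMap.mem_ker, ← hc]
      by_cases hc0 : c = 0
      · rw [hc0, zero_smul]
      · exfalso
        apply hp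
        have : p = N (c⁻¹ • x) := by
          rw [map_smul, ← hc, inv_smul_smul₀ hc0]
        rw [this]
        exact LinearMap.mem_range_self _ _
    have hdown : ∀ φ : E →ₗ[F] F, φ p = 1 → φ (a.symm p - p) = 0 → φ (a.symm p) = 1 := by
      intro φ h1 h2
      rw [map_sub, h1] at h2
      exact sub_eq_zero.1 h2
    obtain ⟨φ₁, h1, h2⟩ := exists_dual hpw
    by_cases hD : finrank F (LinearMap.ker N) ≤ 1
    · refine ⟨p, φ₁, h1, hdown _ h1 h2, le_trans (Submodule.finrank_mono ?_) hD⟩
      exact inf_le_right.trans hK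
    · obtain ⟨d, hdN, hd⟩ : ∃ d ∈ LinearMap.ker N, d ∉ Submodule.span F {a.symm p - p} := by
        by_contra hcon
        push Not at hcon
        exact hD ((Submodule.finrank_mono hcon).trans (fr_span_le _))
      obtain ⟨φ, h3, h4, h5⟩ : ∃ φ : E →ₗ[F] F, φ p = 1 ∧ φ (a.symm p - p) = 0 ∧ φ d ≠ 0 := by
        by_cases h : φ₁ d = 0
        · obtain ⟨φ₂, h6, h7⟩ := exists_dual hd
          refine ⟨φ₁ + (φ₂ - φ₂ p • φ₁), ?_, ?_, ?_⟩
          · simp [h1]
          · simp [h2, h7]
          · simp [h, h6]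
        · exact ⟨φ₁, h1, h2, h⟩
      refine ⟨p, φ, h3, hdown _ h3 h4, ?_⟩
      have h6 : LinearMap.ker φ ⊓ (Submodule.span F {p}).comap N < LinearMap.ker N := by
        refine lt_of_le_of_ne (inf_le_right.trans hK) ?_
        intro h7
        rw [← h7] at hdN
        exact h5 hdN.1
      have h7 := Submodule.finrank_lt_finrank_of_lt h6
      omega

end Lin

section Mat

variable {F : Type*} [Field F]

/-- The inverse of the matrix of a basis. -/
noncomputable def pm {n : ℕ} (B : Basis (Fin n) F (Fin n → F)) : GL (Fin n) F where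
  val := (Pi.basisFun F (Fin n)).toMatrix B
  inv := B.toMatrix (Pi.basisFun F (Fin n))
  val_inv := Basis.toMatrix_mul_toMatrix_flip _ _
  inv_val := Basis.toMatrix_mul_toMatrix_flip _ _

theorem pm_col {n : ℕ} (B : Basis (Fin n) F (Fin n → F)) (i j : Fin n) :
    (pm B : Matrix (Fin n) (Fin n) F) i j = B j i := rfl

theorem pm_inv_mulVec {n : ℕ} (B : Basis (Fin n) F (Fin n → F)) (v : Fin n → F) :
    ((pm B)⁻¹ : GL (Fin n) F).1 *ᵥ v = B.repr v := by
  show B.toMatrix (Pi.basisFun F (Fin n)) *ᵥ v = B.repr v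
  have := Basis.toMatrix_mulVec_repr (Pi.basisFun F (Fin n)) B v
  have h : ((Pi.basisFun F (Fin n)).repr v : Fin n → F) = v := by
    ext i
    rw [Pi.basisFun_repr]
  rwa [h] at this

theorem pm_conj {n : ℕ} (B : Basis (Fin n) F (Fin n → F)) (A : Matrix (Fin n) (Fin n) F)
    (i j : Fin n) : (((pm B)⁻¹ : GL (Fin n) F).1 * A * (pm B).1) i j = B.repr (A *ᵥ B j) i := by
  rw [← pm_inv_mulVec, mulVec_mulVec]
  rfl

/-- **RED43**. -/
theorem red43 {A : GL (Fin 4) F} (hdet : (A : Matrix (Fin 4) (Fin 4) F).det = 1)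
    (hns : ∀ c : F, (A : Matrix (Fin 4) (Fin 4) F) ≠ c • (1 : Matrix (Fin 4) (Fin 4) F))
    (hr : 2 ≤ ((A : Matrix (Fin 4) (Fin 4) F) - 1).rank) :
    ∃ P : GL (Fin 4) F,
      ((((P⁻¹ : GL (Fin 4) F) : Matrix (Fin 4) (Fin 4) F) * (A : Matrix (Fin 4) (Fin 4) F) *
        (P : Matrix (Fin 4) (Fin 4) F)).submatrix Fin.succ Fin.succ).det = 1 ∧
      2 ≤ ((((P⁻¹ : GL (Fin 4) F) : Matrix (Fin 4) (Fin 4) F) * (A : Matrix (Fin 4) (Fin 4) F) *
        (P : Matrix (Fin 4) (Fin 4) F)).submatrix Fin.succ Fin.succ - 1).rank := by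
  have e1 : ((gle A : (Fin 4 → F) ≃ₗ[F] (Fin 4 → F)) : (Fin 4 → F) →ₗ[F] (Fin 4 → F)) - 1 =
      ((A : Matrix (Fin 4) (Fin 4) F) - 1).mulVecLin := by
    ext x i
    simp [gle_apply]
  obtain ⟨p, φ, h1, h2, h3⟩ := exists_pair (F := F) (E := Fin 4 → F) (by simp) (gle A) (by
    intro c
    by_contra hcon
    push Not at hcon
    apply hns c
    ext i j
    have := congrFun (hcon (Pi.single j 1)) i
    rw [gle_apply, mulVec_single_one] at this
    simpa [one_apply, Pi.single_apply] using this) (by
    rw [e1]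
    exact hr)
  have hker : finrank F (LinearMap.ker φ) = 3 := by
    have h4 := φ.finrank_range_add_finrank_ker
    have h5 : LinearMap.range φ = ⊤ := by
      rw [LinearMap.range_eq_top]
      intro c
      exact ⟨c • p, by rw [map_smul, h1, smul_eq_mul, mul_one]⟩
    rw [h5, finrank_top, finrank_self] at h4
    simp only [finrank_fin_fun] at h4
    omega
  let b : Basis (Fin 3) F (LinearMap.ker φ) := finBasisOfFinrankEq F _ hker
  let B : Basis (Fin 4) F (Fin 4 → F) := Basis.mkFinCons p b (by
    intro c x hx hc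
    have := congrArg φ hc
    rw [map_add, map_smul, h1, LinearMap.mem_ker.1 hx, map_zero] at this
    simpa using this) (by
    intro z
    refine ⟨-(φ z), ?_⟩
    rw [LinearMap.mem_ker, map_add, map_smul, h1]
    simp)
  have hB0 : B 0 = p := by
    simp [B, Basis.coe_mkFinCons]
  have hBs : ∀ i : Fin 3, B i.succ = b i := by
    intro i
    simp [B, Basis.coe_mkFinCons]
  have hφ : ∀ v, B.repr v 0 = φ v := by
    intro v
    have : B.coord 0 = φ := by
      apply B.ext
      intro j
      rw [Basis.coord_apply, Basis.repr_self]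
      refine Fin.cases ?_ (fun i => ?_) j
      · rw [hB0, h1]; simp
      · rw [hBs, (b i).2]; simp
    rw [← this]; rfl
  refine ⟨pm B, ?_, ?_⟩
  · set C := ((pm B)⁻¹ : GL (Fin 4) F).1 * A.1 * (pm B).1 with hC
    have hCdet : C.det = 1 := by
      rw [hC, det_mul, det_mul, hdet, mul_one, ← det_mul, Units.inv_mul, det_one]
    have h4 := adjugate_fin_succ_eq_det_submatrix C 0 0
    have h5 : adjugate C = ((pm B)⁻¹ : GL (Fin 4) F).1 * (A⁻¹ : GL (Fin 4) F).1 * (pm B).1 := by
      have h6 : C * adjugate C = 1 := by rw [mul_adjugate, hCdet, one_smul]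
      have h7 : ((pm B)⁻¹ : GL (Fin 4) F).1 * (A⁻¹ : GL (Fin 4) F).1 * (pm B).1 * C = 1 := by
        rw [hC]
        have : ((pm B)⁻¹ * A⁻¹ * pm B) * ((pm B)⁻¹ * A * pm B) = 1 := by group
        have := congrArg Units.val this
        simpa using this
      calc adjugate C = (((pm B)⁻¹ : GL (Fin 4) F).1 * (A⁻¹ : GL (Fin 4) F).1 * (pm B).1 * C) *
            adjugate C := by rw [h7, one_mul]
        _ = _ := by rw [mul_assoc, h6, mul_one]
    rw [h5, pm_conj, hφ, hB0] at h4
    have h6 : (A⁻¹ : GL (Fin 4) F).1 *ᵥ p = (gle A).symm p := rfl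
    rw [h6, h2] at h4
    simp only [Fin.val_zero, add_zero, pow_zero, one_mul, Fin.succAbove_zero] at h4
    exact h4.symm
  · by_contra hcon
    push Not at hcon
    set C := ((pm B)⁻¹ : GL (Fin 4) F).1 * A.1 * (pm B).1 with hC
    set T := (C.submatrix Fin.succ Fin.succ - 1).mulVecLin with hT
    have h4 := T.finrank_range_add_finrank_ker
    have h5 : finrank F (LinearMap.range T) = (C.submatrix Fin.succ Fin.succ - 1).rank := rfl
    rw [h5] at h4
    simp only [finrank_fin_fun] at h4
    have h6 : 2 ≤ finrank F (LinearMap.ker T) := by omega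
    -- the map `x ↦ ∑ x_i b_i`
    let J : (Fin 3 → F) →ₗ[F] (Fin 4 → F) := (LinearMap.ker φ).subtype ∘ₗ
      (b.equivFun.symm : (Fin 3 → F) →ₗ[F] LinearMap.ker φ)
    have hJinj : Function.Injective J := by
      intro x y hxy
      exact b.equivFun.symm.injective (Subtype.ext hxy)
    have hJ : ∀ x, J x = ∑ i, x i • B i.succ := by
      intro x
      simp only [J, LinearMap.comp_apply, LinearEquiv.coe_coe, Basis.equivFun_symm_apply,
        Submodule.subtype_apply, Submodule.coe_sum, Submodule.coe_smul, hBs]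
    have hJK : ∀ x ∈ LinearMap.ker T, J x ∈ (LinearMap.ker φ ⊓ (Submodule.span F {p}).comap
        (((gle A : (Fin 4 → F) ≃ₗ[F] (Fin 4 → F)) : (Fin 4 → F) →ₗ[F] (Fin 4 → F)) - 1) :
        Submodule F (Fin 4 → F)) := by
      intro x hx
      refine ⟨(b.equivFun.symm x).2, ?_⟩
      show ((gle A : (Fin 4 → F) ≃ₗ[F] (Fin 4 → F)) : (Fin 4 → F) →ₗ[F] (Fin 4 → F)) (J x) - J x ∈
        Submodule.span F {p}
      set z := ((gle A : (Fin 4 → F) ≃ₗ[F] (Fin 4 → F)) : (Fin 4 → F) →ₗ[F] (Fin 4 → F)) (J x) - J x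
        with hz
      have h8 : ∀ i : Fin 3, B.repr z i.succ = 0 := by
        intro i
        have h9 := congrFun (LinearMap.mem_ker.1 hx) i
        rw [hT, mulVecLin_apply, sub_mulVec, one_mulVec, Pi.sub_apply, Pi.zero_apply] at h9
        rw [hz, map_sub, hJ, map_sum, map_sum, map_sum]
        simp only [map_smul, Finsupp.coe_sub, Finsupp.coe_finsetSum, Finsupp.coe_smul,
          Pi.sub_apply, Finset.sum_apply, Pi.smul_apply, Basis.repr_self, smul_eq_mul,
          LinearEquiv.coe_coe, gle_apply]
        rw [← h9]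
        congr 1
        · rw [mulVec, dotProduct]
          refine Finset.sum_congr rfl fun j _ => ?_
          rw [submatrix_apply, hC, pm_conj, mul_comm]
        · rw [Finset.sum_eq_single i]
          · simp
          · intro j _ hj
            simp [hj]
          · simp
      have h9 : z = B.repr z 0 • p := by
        conv_lhs => rw [← B.sum_repr z, Fin.sum_univ_succ]
        simp only [h8, zero_smul, Finset.sum_const_zero, add_zero, hB0]
      rw [h9]
      exact Submodule.smul_mem _ _ (Submodule.mem_span_singleton_self p)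
    have h7 : finrank F (LinearMap.ker T) ≤ 1 := by
      refine le_trans ?_ h3
      refine LinearMap.finrank_le_finrank_of_injective
        (f := J.restrict (p := LinearMap.ker T) hJK) ?_
      intro x y hxy
      have h8 := congrArg Subtype.val hxy
      exact Subtype.ext (hJinj h8)
    omega

end Mat

section Frm

variable {F V : Type*} [Field F] [AddCommGroup V] [Module F V] {n : ℕ} {Q : QuadraticForm F V}

theorem polar_sum_sum_ll {w w' : Fin n → V} (hf : Frame Q w w') (a b : Fin n → F) :
    polar Q (∑ i, a i • w i) (∑ i, b i • w i) = 0 := by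
  rw [polar, ← Finset.sum_add_distrib]
  simp only [← add_smul]
  rw [hf.Q_sum_l (fun i => a i + b i), hf.Q_sum_l, hf.Q_sum_l]
  ring

/-- Change of frame. -/
theorem frame_change {w w' : Fin n → V} (hf : Frame Q w w') (P : GL (Fin n) F) :
    Frame Q (fun j => ∑ k, (P : Matrix (Fin n) (Fin n) F) k j • w k)
      (fun i => ∑ k, ((P⁻¹ : GL (Fin n) F) : Matrix (Fin n) (Fin n) F) i k • w' k) where
  sl i := hf.Q_sum_l _ _
  sr i := hf.Q_sum_r _ _
  ll i j := polar_sum_sum_ll hf _ _
  rr i j := polar_sum_sum_ll hf.symm _ _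
  lr i j := by
    rw [hf.polar_sum_sum]
    have h := congrFun (congrFun (Units.inv_mul P) j) i
    rw [mul_apply, one_apply] at h
    rw [dotProduct]
    simp only [eq_comm (a := i)]
    rw [← h]
    exact Finset.sum_congr rfl fun k _ => mul_comm _ _

theorem corner_change {w w' : Fin n → V} (P : GL (Fin n) F) (g : V ≃ₗ[F] V) :
    corner Q g (fun j => ∑ k, (P : Matrix (Fin n) (Fin n) F) k j • w k)
      (fun i => ∑ k, ((P⁻¹ : GL (Fin n) F) : Matrix (Fin n) (Fin n) F) i k • w' k) =
    ((P⁻¹ : GL (Fin n) F) : Matrix (Fin n) (Fin n) F) * corner Q g w w' *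
      (P : Matrix (Fin n) (Fin n) F) := by
  ext i j
  rw [corner_apply, ← polarBilin_apply_apply]
  simp only [map_sum, map_smul, LinearMap.sum_apply, LinearMap.smul_apply, smul_eq_mul, mul_apply,
    Finset.sum_mul, Finset.mul_sum, polarBilin_apply_apply, corner_apply]
  rw [Finset.sum_comm]
  refine Finset.sum_congr rfl fun k _ => ?_
  refine Finset.sum_congr rfl fun l _ => ?_
  ring

/-- Dropping the first pair. -/
theorem frame_succ {w w' : Fin (n + 1) → V} (hf : Frame Q w w') :
    Frame Q (fun i : Fin n => w i.succ) (fun i : Fin n => w' i.succ) where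
  sl i := hf.sl _
  sr i := hf.sr _
  ll i j := hf.ll _ _
  rr i j := hf.rr _ _
  lr i j := by
    rw [hf.lr]
    simp only [Fin.succ_inj]

theorem corner_succ {w w' : Fin (n + 1) → V} (g : V ≃ₗ[F] V) :
    corner Q g (fun i : Fin n => w i.succ) (fun i : Fin n => w' i.succ) =
      (corner Q g w w').submatrix Fin.succ Fin.succ := rfl

/-- Expansion in a frame spanning `V`. -/
theorem expand [FiniteDimensional F V] {w w' : Fin n → V} (hf : Frame Q w w')
    (hd : finrank F V = 2 * n) (v : V) :
    v = ∑ i, polar Q v (w' i) • w i + ∑ i, polar Q v (w i) • w' i := by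
  have h1 := hf.finrank_perp
  have h2 : perp Q w w' = ⊥ := by
    apply Submodule.finrank_eq_zero.1
    omega
  have h3 := hf.proj_mem v
  rw [h2, Submodule.mem_bot] at h3
  exact sub_eq_zero.1 h3

/-- **Schur complement on the plane of the dropped pair.** -/
theorem schurOne_succ [FiniteDimensional F V] {w w' : Fin (n + 1) → V} (hf : Frame Q w w')
    (hd : finrank F V = 2 * (n + 1)) {g : V ≃ₗ[F] V} (hg : g ∈ O Q)
    (hdet : (corner Q g w w').det = 1)
    (hdet' : ((corner Q g w w').submatrix Fin.succ Fin.succ).det = 1) :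
    SchurOne Q g (fun i : Fin n => w i.succ) (fun i : Fin n => w' i.succ) := by
  set C := corner Q g w w' with hC
  set D := adjugate C with hD
  have hCD : C * D = 1 := by rw [hD, mul_adjugate, hdet, one_smul]
  have hD00 : D 0 0 = 1 := by
    rw [hD, adjugate_fin_succ_eq_det_submatrix]
    simp only [Fin.val_zero, add_zero, pow_zero, one_mul, Fin.succAbove_zero]
    exact hdet'
  have hf' := frame_succ hf
  -- images of combinations of `w`
  have hpol : ∀ (a : Fin (n + 1) → F) (i : Fin (n + 1)),
      polar Q (g (∑ k, a k • w k)) (w' i) = (C *ᵥ a) i := by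
    intro a i
    rw [map_sum, ← polarBilin_apply_apply, map_sum, LinearMap.sum_apply, mulVec, dotProduct]
    refine Finset.sum_congr rfl fun k _ => ?_
    rw [map_smul, map_smul, LinearMap.smul_apply, polarBilin_apply_apply, smul_eq_mul, mul_comm]
    rfl
  -- the vector `x`
  set x := ∑ k, D k 0 • w k with hx
  have hx' : x = w 0 + ∑ i : Fin n, D i.succ 0 • w i.succ := by
    rw [hx, Fin.sum_univ_succ, hD00, one_smul]
  have hgx : ∀ i, polar Q (g x) (w' i) = if i = 0 then 1 else 0 := by
    intro i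
    rw [hx, hpol]
    have := congrFun (congrFun hCD i) 0
    rw [mul_apply, one_apply] at this
    exact this
  have hgx0 : polar Q (g x) (w 0) = 0 := by
    have h1 : Q (g x) = 0 := by rw [mem_O.1 hg, hx]; exact hf.Q_sum_l _ _
    have h2 := expand hf hd (g x)
    rw [h2, Q_add, hf.Q_sum_l, hf.Q_sum_r, hf.polar_sum_sum] at h1
    simp only [hgx, dotProduct, ite_mul, one_mul, zero_mul, zero_add, Finset.sum_ite_eq',
      Finset.mem_univ, if_true] at h1
    exact h1
  have hgxe : g x = w 0 + ∑ i : Fin n, polar Q (g x) (w i.succ) • w' i.succ := by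
    have h2 := expand hf hd (g x)
    rw [Fin.sum_univ_succ (fun i => polar Q (g x) (w i) • w' i), hgx0, zero_smul, zero_add] at h2
    simp only [hgx, ite_smul, one_smul, zero_smul, Finset.sum_ite_eq', Finset.mem_univ,
      if_true] at h2
    exact h2
  -- the vector `y`
  set z : Fin (n + 1) → F := D *ᵥ fun i => polar Q (g (w' 0)) (w' i) with hz
  set y := w' 0 - ∑ k, z k • w k + z 0 • x with hy
  have hy' : y = w' 0 + ∑ i : Fin n, (z 0 * D i.succ 0 - z i.succ) • w i.succ := by
    rw [hy, hx', Fin.sum_univ_succ, smul_add, Finset.smul_sum]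
    simp only [sub_smul, Finset.sum_sub_distrib, smul_smul]
    abel
  have hgy : ∀ i, polar Q (g y) (w' i) = if i = 0 then z 0 else 0 := by
    intro i
    rw [hy, map_add, map_sub, map_smul, polar_add_left, polar_sub_left, polar_smul_left, hgx,
      hpol, hz, mulVec_mulVec, hCD, one_mulVec]
    split_ifs <;> simp
  have hyf : y = w' 0 + ∑ k, (z 0 * D k 0 - z k) • w k := by
    rw [hy']
    congr 1
    rw [Fin.sum_univ_succ (fun k => (z 0 * D k 0 - z k) • w k), hD00, mul_one, sub_self,
      zero_smul, zero_add]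
  have hw0 : ∀ a : Fin (n + 1) → F, polar Q (w' 0) (∑ k, a k • w k) = a 0 := fun a => by
    rw [polar_comm, hf.polar_sum_l]
  have hgy1 : polar Q (g y) (w 0) = 1 := by
    have h1 : polar Q (g y) (g x) = 1 := by
      rw [polar_map hg, hyf, hx, polar_add_left, hw0, polar_sum_sum_ll hf, hD00, add_zero]
    rw [hgxe, polar_add_right] at h1
    have h2 : polar Q (g y) (∑ i : Fin n, polar Q (g x) (w i.succ) • w' i.succ) = 0 := by
      rw [← polarBilin_apply_apply, map_sum]
      refine Finset.sum_eq_zero fun i _ => ?_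
      rw [map_smul, polarBilin_apply_apply, hgy, if_neg (Fin.succ_ne_zero i), smul_zero]
    rwa [h2, add_zero] at h1
  have hz0 : z 0 = 0 := by
    have h1 : Q (g y) = 0 := by
      rw [mem_O.1 hg, hyf, Q_add, hf.sr, hf.Q_sum_l, hw0, hD00]
      ring
    have h2 := expand hf hd (g y)
    rw [h2, Q_add, hf.Q_sum_l, hf.Q_sum_r, hf.polar_sum_sum] at h1
    simp only [hgy, dotProduct, ite_mul, zero_mul, zero_add, Finset.sum_ite_eq',
      Finset.mem_univ, if_true, hgy1, mul_one] at h1
    exact h1
  have hgye : g y = w' 0 + ∑ i : Fin n, polar Q (g y) (w i.succ) • w' i.succ := by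
    have h2 := expand hf hd (g y)
    rw [Fin.sum_univ_succ (fun i => polar Q (g y) (w i) • w' i), hgy1, one_smul] at h2
    simp only [hgy, hz0, ite_self, zero_smul, Finset.sum_const_zero, zero_add] at h2
    exact h2
  intro u hu
  have hu' : u = polar Q u (w' 0) • w 0 + polar Q u (w 0) • w' 0 := by
    have h2 := expand hf hd u
    rw [Fin.sum_univ_succ (fun i => polar Q u (w i) • w' i),
      Fin.sum_univ_succ (fun i => polar Q u (w' i) • w i)] at h2
    have h3 : ∀ i : Fin n, polar Q u (w i.succ) = 0 := fun i => by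
      rw [polar_comm]; exact (hu i).1
    have h4 : ∀ i : Fin n, polar Q u (w' i.succ) = 0 := fun i => by
      rw [polar_comm]; exact (hu i).2
    simp only [h3, h4, zero_smul, Finset.sum_const_zero, add_zero] at h2
    exact h2
  set α := polar Q u (w' 0) with hα
  set β := polar Q u (w 0) with hβ
  refine ⟨fun i => α * D i.succ 0 + β * (z 0 * D i.succ 0 - z i.succ),
    fun i => α * polar Q (g x) (w i.succ) + β * polar Q (g y) (w i.succ), ?_⟩
  have h5 : u + ∑ i : Fin n, (α * D i.succ 0 + β * (z 0 * D i.succ 0 - z i.succ)) • w i.succ =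
      α • x + β • y := by
    rw [hx', hy', smul_add, smul_add, Finset.smul_sum, Finset.smul_sum]
    conv_lhs => rw [hu']
    simp only [add_smul, Finset.sum_add_distrib, mul_smul]
    abel
  rw [h5, map_add, map_smul, map_smul]
  conv_lhs => rw [hgxe, hgye, smul_add, smul_add, Finset.smul_sum, Finset.smul_sum]
  conv_rhs => rw [hu']
  simp only [add_smul, Finset.sum_add_distrib, mul_smul]
  abel

/-- The weak form of the output of the base corner theorem. -/
def BaseCorner' (n : ℕ) (Q : QuadraticForm F V) (g : V → V) : Prop :=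
  ∃ w w' : Fin n → V, Frame Q w w' ∧ SchurOne Q g w w' ∧ (corner Q g w w').det = 1 ∧
    (corner Q g w w' = 1 ∨ 2 ≤ (corner Q g w w' - 1).rank)

theorem BaseCorner.weak {g : V → V} (h : BaseCorner n Q g) : BaseCorner' n Q g := by
  obtain ⟨w, w', h1, h2, h3, h4⟩ := h
  exact ⟨w, w', h1, h2, h3, h4.imp id fun h => h.2⟩

theorem baseCorner_succ [FiniteDimensional F V] {w w' : Fin (n + 1) → V} (hf : Frame Q w w')
    (hd : finrank F V = 2 * (n + 1)) {g : V ≃ₗ[F] V} (hg : g ∈ O Q)
    {C : Matrix (Fin (n + 1)) (Fin (n + 1)) F} (hC : corner Q g w w' = C) (hdet : C.det = 1)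
    (hdet' : (C.submatrix Fin.succ Fin.succ).det = 1)
    (h : C.submatrix Fin.succ Fin.succ = 1 ∨ 2 ≤ (C.submatrix Fin.succ Fin.succ - 1).rank) :
    BaseCorner' n Q g := by
  subst hC
  exact ⟨_, _, frame_succ hf, schurOne_succ hf hd hg hdet hdet', hdet', h⟩

/-- From size 4 to size 3 in dimension 8. -/
theorem baseCorner_three [FiniteDimensional F V] (hd : finrank F V = 8) {g : V ≃ₗ[F] V}
    (hg : g ∈ O Q) (h : BaseCorner 4 Q g) : BaseCorner' 3 Q g := by
  obtain ⟨w, w', hf, -, hdet, h⟩ := h
  rcases h with h | ⟨hns, hr⟩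
  · have h1 : ((1 : Matrix (Fin 4) (Fin 4) F).submatrix Fin.succ Fin.succ :
        Matrix (Fin 3) (Fin 3) F) = 1 := by
      ext i j
      simp [one_apply]
    exact baseCorner_succ hf hd hg h det_one (by rw [h1, det_one]) (Or.inl h1)
  · let A : GL (Fin 4) F := GeneralLinearGroup.mkOfDetNeZero (corner Q g w w')
      (by rw [hdet]; exact one_ne_zero)
    obtain ⟨P, h1, h2⟩ := red43 (A := A) hdet hns hr
    refine baseCorner_succ (frame_change hf P) hd hg (corner_change (Q := Q) (w := w) (w' := w') P g)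
      ?_ h1 (Or.inr h2)
    rw [det_mul, det_mul, hdet, mul_one, ← det_mul, Units.inv_mul, det_one]

end Frm

end Cfsg.Agent.H141.Red43
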