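import Mathlib
import Cfsg.Agent.H141.SpinLev
import Cfsg.Agent.H194.OreNegSix

/-!
# The element `-1` in dimension ten (helper141, for Ore-Omega)

* `neg_eq_list`, `spin_neg`, `det_neg` (LEMMA A): `-1` is the product of the reflections in the members of
  an orthogonal basis; spinor sign and determinant of `-1`;
* `hsc_eq`, `spin_hsc`, `det_hsc`, `cl_iff` (LEMMA B): `Cl Q s y ↔ y ∈ O Q, det y = 1, spin y = chi s`;
* `neg_ten`.
-/

set_option autoImplicit false
set_option linter.unusedSectionVars false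

namespace Cfsg.Agent.H141.NegTen

open QuadraticMap Cfsg.Agent.LieClassical.OrthCore Cfsg.Agent.LieClassical.OrthTrans
open Cfsg.Agent.LieClassical.OrthFinite
open Cfsg.Agent.H160.QSpin Cfsg.Agent.H140.OreO Cfsg.Agent.H141.SpinFacts
open Cfsg.Agent.H194.OreNegSix

variable {F V : Type*} [Field F] [AddCommGroup V] [Module F V] {Q : QuadraticForm F V}

/-! ### Lemma A -/

theorem neg_mem_O (Q : QuadraticForm F V) : (LinearEquiv.neg F : V ≃ₗ[F] V) ∈ O Q := by
  intro x
  rw [LinearEquiv.neg_apply, QuadraticMap.map_neg]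

/-- `-1` as an element of `O Q`. -/
def nO (Q : QuadraticForm F V) : O Q := ⟨LinearEquiv.neg F, neg_mem_O Q⟩

theorem list_prod_apply {N : ℕ} (f : Fin N → V) (hf : ∀ i, Q (f i) ≠ 0)
    (ho : ∀ i j, i ≠ j → polar Q (f i) (f j) = 0) (l : List (Fin N)) (hl : l.Nodup) (j : Fin N) :
    (((l.map fun i => rO Q (f i) (hf i)).prod : O Q) : V ≃ₗ[F] V) (f j) =
      if j ∈ l then - f j else f j := by
  induction l with
  | nil => simp
  | cons a l ih =>
    rw [List.nodup_cons] at hl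
    have e : ((((a :: l).map fun i => rO Q (f i) (hf i)).prod : O Q) : V ≃ₗ[F] V) (f j) =
        refl Q (f a) (hf a) ((((l.map fun i => rO Q (f i) (hf i)).prod : O Q) : V ≃ₗ[F] V) (f j)) :=
      rfl
    rw [e, ih hl.2]
    by_cases hj : j = a
    · subst hj
      rw [if_neg hl.1, if_pos List.mem_cons_self, refl_self']
    · have h1 : refl Q (f a) (hf a) (f j) = f j := refl_orth _ (ho a j (Ne.symm hj))
      by_cases hjl : j ∈ l
      · rw [if_pos hjl, if_pos (List.mem_cons_of_mem _ hjl), map_neg, h1]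
      · rw [if_neg hjl, if_neg (by simp [hj, hjl]), h1]

/-- **LEMMA A.** -/
theorem neg_eq_list (h2 : (2 : F) ≠ 0) {N : ℕ} (hd : Module.finrank F V = N) (hN : 0 < N)
    (f : Fin N → V) (hf : ∀ i, Q (f i) ≠ 0) (ho : ∀ i j, i ≠ j → polar Q (f i) (f j) = 0) :
    nO Q = ((List.finRange N).map fun i => rO Q (f i) (hf i)).prod := by
  have hli := linearIndependent_of_orth h2 f hf ho
  have : Module.Finite F V := Module.finite_of_finrank_pos (by omega)
  have : Nonempty (Fin N) := ⟨⟨0, hN⟩⟩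
  let b := basisOfLinearIndependentOfCardEqFinrank hli (by rw [hd]; simp)
  have hb : ∀ i, b i = f i := fun i => by simp [b]
  apply Subtype.ext
  apply b.ext'
  intro i
  rw [hb, list_prod_apply f hf ho _ (List.nodup_finRange N) i, if_pos (List.mem_finRange i)]
  rfl

theorem spin_rO [Finite F] [Finite V] (h2 : (2 : F) ≠ 0) {v : V} (hv : Q v ≠ 0) :
    spin Q (rO Q v hv) = - chi (Q v) := spin_refl' h2 hv

/-- The spinor sign of `-1`. -/
theorem spin_neg [Finite F] [Finite V] (h2 : (2 : F) ≠ 0) {N : ℕ} (hd : Module.finrank F V = N)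
    (hN : 0 < N) (f : Fin N → V) (hf : ∀ i, Q (f i) ≠ 0)
    (ho : ∀ i j, i ≠ j → polar Q (f i) (f j) = 0) :
    spin Q (nO Q) = ∏ i, (- chi (Q (f i))) := by
  rw [neg_eq_list h2 hd hN f hf ho, map_list_prod, List.map_map, ← List.ofFn_eq_map,
    List.prod_ofFn]
  exact Finset.prod_congr rfl fun i _ => spin_rO h2 (hf i)

theorem det_rO [FiniteDimensional F V] {v : V} (hv : Q v ≠ 0) :
    LinearEquiv.det (rO Q v hv : V ≃ₗ[F] V) = -1 := det_refl hv

/-- If `-1 ∈ Ω` then the product of the signs is one. -/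
theorem prod_eq_one_of_neg_mem [Finite F] [Finite V] (h2 : (2 : F) ≠ 0) {N : ℕ}
    (hd : Module.finrank F V = N) (hN : 0 < N) (f : Fin N → V) (hf : ∀ i, Q (f i) ≠ 0)
    (ho : ∀ i j, i ≠ j → polar Q (f i) (f j) = 0)
    (h : (LinearEquiv.neg F : V ≃ₗ[F] V) ∈ ⁅O Q, O Q⁆) : ∏ i, (- chi (Q (f i))) = 1 := by
  rw [← spin_neg h2 hd hN f hf ho]
  exact hom_eq_one (spin Q) h (neg_mem_O Q)

/-! ### Lemma B -/

theorem Q_sub_hyp {x x' : V} (h : Hyp Q x x') (s : Fˣ) : Q (x - (s : F) • x') = - (s : F) := by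
  rw [sub_eq_add_neg, Q_add, QuadraticMap.map_neg, polar_neg_right, polar_smul_right, h.pair,
    QuadraticMap.map_smul, h.left, h.right]
  simp

theorem hsc_eq {x x' : V} (h : Hyp Q x x') (s : Fˣ) (h1 : Q (x - x') ≠ 0)
    (h2 : Q (x - (s : F) • x') ≠ 0) :
    hsc h s = refl Q (x - x') h1 * refl Q (x - (s : F) • x') h2 := by
  have e1 : Q (x - x') = -1 := by
    have := Q_sub_hyp h 1
    simpa using this
  have hs : (s : F) * ((s⁻¹ : Fˣ) : F) = 1 := by rw [← Units.val_mul]; simp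
  have hs0 : (s : F) ≠ 0 := s.ne_zero
  apply LinearEquiv.ext
  intro v
  rw [hsc_apply, LinearEquiv.mul_apply, refl_apply, refl_apply, e1, Q_sub_hyp h]
  have e2 : ∀ c : F, polar Q (x - c • x') v = polar Q x v - c * polar Q x' v := by
    intro c
    rw [polar_sub_left, polar_smul_left, smul_eq_mul]
  have e3 : polar Q (x - x') v = polar Q x v - polar Q x' v := polar_sub_left _ _ _ _
  have e4 : polar Q (x - x') (x - (s : F) • x') = - (s : F) - 1 := by
    rw [polar_sub_left, polar_sub_right, polar_sub_right, polar_smul_right, polar_smul_right,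
      h.polar_left, h.polar_right, h.pair, h.pair', smul_eq_mul, smul_eq_mul]
    ring
  rw [polar_sub_right, polar_smul_right, e3, e2, e4, Units.val_inv_eq_inv_val]
  simp only [smul_eq_mul]
  have : (-(s : F))⁻¹ = - (s : F)⁻¹ := by rw [inv_neg]
  rw [this]
  have h3 : (-1 : F)⁻¹ = -1 := by rw [inv_neg, inv_one]
  rw [h3]
  match_scalars <;> field_simp <;> ring

section Fin

variable [Finite F] [FiniteDimensional F V] [Finite V]

theorem spin_hsc (h2 : (2 : F) ≠ 0) {x x' : V} (h : Hyp Q x x') (s : Fˣ) :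
    spin Q ⟨hsc h s, hsc_mem h s⟩ = chi (s : F) := by
  have e1 : Q (x - x') = -1 := by
    have := Q_sub_hyp h 1
    simpa using this
  have h1 : Q (x - x') ≠ 0 := by rw [e1]; exact neg_ne_zero.2 one_ne_zero
  have h3 : Q (x - (s : F) • x') ≠ 0 := by rw [Q_sub_hyp h]; exact neg_ne_zero.2 s.ne_zero
  have e : (⟨hsc h s, hsc_mem h s⟩ : O Q) = rO Q _ h1 * rO Q _ h3 := Subtype.ext (hsc_eq h s h1 h3)
  rw [e, map_mul, spin_rO h2, spin_rO h2, e1, Q_sub_hyp h, neg_mul_neg]
  exact chi_neg_one_mul_self _ s.ne_zero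

theorem det_hsc {x x' : V} (h : Hyp Q x x') (s : Fˣ) : LinearEquiv.det (hsc h s) = 1 := by
  have e1 : Q (x - x') = -1 := by
    have := Q_sub_hyp h 1
    simpa using this
  have h1 : Q (x - x') ≠ 0 := by rw [e1]; exact neg_ne_zero.2 one_ne_zero
  have h3 : Q (x - (s : F) • x') ≠ 0 := by rw [Q_sub_hyp h]; exact neg_ne_zero.2 s.ne_zero
  rw [hsc_eq h s h1 h3, map_mul, det_refl, det_refl]
  simp

/-- **LEMMA B.** -/
theorem cl_iff (h2 : (2 : F) ≠ 0) (hG : Good Q) {s : Fˣ} {y : V ≃ₗ[F] V} :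
    Cl Q s y ↔ ∃ hy : y ∈ O Q, LinearEquiv.det y = 1 ∧ spin Q ⟨y, hy⟩ = chi (s : F) := by
  constructor
  · intro h
    obtain ⟨x, x', hx⟩ := hG.exists_hyp
    have h1 := h.2 x x' hx
    refine ⟨h.1, ?_, ?_⟩
    · have h3 := det_eq_one h1
      rw [map_mul, map_inv, det_hsc, inv_one, mul_one] at h3
      exact h3
    · have h3 := hom_eq_one (spin Q) h1 (comm_le h1)
      have e : (⟨y * (hsc hx s)⁻¹, comm_le h1⟩ : O Q) = ⟨y, h.1⟩ * ⟨hsc hx s, hsc_mem hx s⟩⁻¹ := rfl
      rw [e, map_mul, map_inv, spin_hsc h2, mul_inv_eq_one] at h3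
      exact h3
  · rintro ⟨hy, hdet, hs⟩
    refine ⟨hy, fun x x' hx => ?_⟩
    have hm : y * (hsc hx s)⁻¹ ∈ O Q := (O Q).mul_mem hy ((O Q).inv_mem (hsc_mem hx s))
    refine mem_Om_of_odd h2 hG hm ?_ ?_
    · rw [map_mul, map_inv, det_hsc, inv_one, mul_one]; exact hdet
    · have e : (⟨y * (hsc hx s)⁻¹, hm⟩ : O Q) = ⟨y, hy⟩ * ⟨hsc hx s, hsc_mem hx s⟩⁻¹ := rfl
      rw [e, map_mul, map_inv, spin_hsc h2, hs, mul_inv_cancel]

theorem chi_one : chi (1 : F) = 1 := (chi_eq_one_iff (1 : F)).2 IsSquare.one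

theorem chi_sq (a : F) : chi a * chi a = 1 := by
  rcases Int.units_eq_one_or (chi a) with h | h <;> rw [h] <;> rfl

/-- The core computation. -/
theorem neg_ten_core (h2 : (2 : F) ≠ 0) (hG : Good Q) (hd : Module.finrank F V = 10) (g : Fin 10 → V)
    {ν : F} (hν : ν ≠ 0) (hg1 : ∀ i, i ≠ 7 → i ≠ 9 → Q (g i) = 1) (hg7 : Q (g 7) = ν)
    (hg9 : Q (g 9) = ν) (ho : ∀ i j, i ≠ j → polar Q (g i) (g j) = 0) {s : Fˣ}
    (hs : chi (2 : F) * chi ν = chi (s : F)) :
    ∃ k ∈ Om Q, ∃ y, Cl Q s y ∧ (LinearEquiv.neg F : V ≃ₗ[F] V) = k * y * k⁻¹ * y⁻¹ ∧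
      y * y * (y * y) = 1 := by
  have hg : ∀ i, Q (g i) ≠ 0 := by
    intro i
    by_cases h7 : i = 7
    · rw [h7, hg7]; exact hν
    · by_cases h9 : i = 9
      · rw [h9, hg9]; exact hν
      · rw [hg1 i h7 h9]; exact one_ne_zero
  have hli := linearIndependent_of_orth h2 g hg ho
  let b := basisOfLinearIndependentOfCardEqFinrank hli (by rw [hd]; rfl)
  have hb : ∀ i, b i = g i := fun i => by simp [b]
  have q0 : Q (g 0) = 1 := hg1 _ (by decide) (by decide)
  have q1 : Q (g 1) = 1 := hg1 _ (by decide) (by decide)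
  have q2 : Q (g 2) = 1 := hg1 _ (by decide) (by decide)
  have q3 : Q (g 3) = 1 := hg1 _ (by decide) (by decide)
  have q4 : Q (g 4) = 1 := hg1 _ (by decide) (by decide)
  have q5 : Q (g 5) = 1 := hg1 _ (by decide) (by decide)
  have q6 : Q (g 6) = 1 := hg1 _ (by decide) (by decide)
  have q8 : Q (g 8) = 1 := hg1 _ (by decide) (by decide)
  have hsub : ∀ i j, i ≠ j → Q (g i) = Q (g j) → Q (g i - g j) = 2 * Q (g i) := by
    intro i j hij h
    rw [sub_eq_add_neg, Q_add, QuadraticMap.map_neg, polar_neg_right, ho i j hij, ← h]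
    ring
  have hsub' : ∀ i j, i ≠ j → Q (g i) = Q (g j) → Q (g i - g j) ≠ 0 := fun i j hij h => by
    rw [hsub i j hij h]; exact mul_ne_zero h2 (hg i)
  have hs' : ∀ i, refl Q (g i) (hg i) (g i) = - g i := fun i => refl_self' (hg i)
  have hn : ∀ i j, i ≠ j → refl Q (g i) (hg i) (g j) = g j := fun i j h => refl_orth _ (ho i j h)
  have r1 : ∀ i j (hij : i ≠ j) (h : Q (g i) = Q (g j)),
      refl Q (g i - g j) (hsub' i j hij h) (g i) = g j := fun i j hij h => refl_sub_left _ h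
  have r2 : ∀ i j (hij : i ≠ j) (h : Q (g i) = Q (g j)),
      refl Q (g i - g j) (hsub' i j hij h) (g j) = g i := fun i j hij h => refl_sub_right _ h
  have r3 : ∀ i j l (hij : i ≠ j) (h : Q (g i) = Q (g j)), i ≠ l → j ≠ l →
      refl Q (g i - g j) (hsub' i j hij h) (g l) = g l := by
    intro i j l hij h hil hjl
    apply refl_orth
    rw [polar_sub_left, ho i l hil, ho j l hjl, sub_zero]
  have h01 : Q (g 0) = Q (g 1) := q0.trans q1.symm
  have h23 : Q (g 2) = Q (g 3) := q2.trans q3.symm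
  have h45 : Q (g 4) = Q (g 5) := q4.trans q5.symm
  have h68 : Q (g 6) = Q (g 8) := q6.trans q8.symm
  have h79 : Q (g 7) = Q (g 9) := hg7.trans hg9.symm
  have d01 : (0 : Fin 10) ≠ 1 := by decide
  have d23 : (2 : Fin 10) ≠ 3 := by decide
  have d45 : (4 : Fin 10) ≠ 5 := by decide
  have d68 : (6 : Fin 10) ≠ 8 := by decide
  have d79 : (7 : Fin 10) ≠ 9 := by decide
  have a01 := r1 0 1 d01 h01
  have b01 := r2 0 1 d01 h01
  have c01 := fun l => r3 0 1 l d01 h01
  have a23 := r1 2 3 d23 h23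
  have b23 := r2 2 3 d23 h23
  have c23 := fun l => r3 2 3 l d23 h23
  have a45 := r1 4 5 d45 h45
  have b45 := r2 4 5 d45 h45
  have c45 := fun l => r3 4 5 l d45 h45
  have a68 := r1 6 8 d68 h68
  have b68 := r2 6 8 d68 h68
  have c68 := fun l => r3 6 8 l d68 h68
  have a79 := r1 7 9 d79 h79
  have b79 := r2 7 9 d79 h79
  have c79 := fun l => r3 7 9 l d79 h79
  let y : O Q := rO Q (g 0 - g 1) (hsub' 0 1 d01 h01) * rO Q (g 0) (hg 0) *
    (rO Q (g 2 - g 3) (hsub' 2 3 d23 h23) * rO Q (g 2) (hg 2)) *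
    (rO Q (g 4 - g 5) (hsub' 4 5 d45 h45) * rO Q (g 4) (hg 4)) *
    (rO Q (g 8) (hg 8) * rO Q (g 9) (hg 9))
  let k : O Q := rO Q (g 1) (hg 1) * rO Q (g 3) (hg 3) * rO Q (g 5) (hg 5) *
    rO Q (g 6 - g 8) (hsub' 6 8 d68 h68) * rO Q (g 7 - g 9) (hsub' 7 9 d79 h79) * rO Q (g 7) (hg 7)
  have ey : (y : V ≃ₗ[F] V) = refl Q (g 0 - g 1) (hsub' 0 1 d01 h01) * refl Q (g 0) (hg 0) *
    (refl Q (g 2 - g 3) (hsub' 2 3 d23 h23) * refl Q (g 2) (hg 2)) *
    (refl Q (g 4 - g 5) (hsub' 4 5 d45 h45) * refl Q (g 4) (hg 4)) *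
    (refl Q (g 8) (hg 8) * refl Q (g 9) (hg 9)) := rfl
  have ek : (k : V ≃ₗ[F] V) = refl Q (g 1) (hg 1) * refl Q (g 3) (hg 3) * refl Q (g 5) (hg 5) *
    refl Q (g 6 - g 8) (hsub' 6 8 d68 h68) * refl Q (g 7 - g 9) (hsub' 7 9 d79 h79) *
    refl Q (g 7) (hg 7) := rfl
  have hdy : LinearEquiv.det (y : V ≃ₗ[F] V) = 1 := by
    rw [ey]
    simp only [map_mul, det_refl]
    simp
  have hdk : LinearEquiv.det (k : V ≃ₗ[F] V) = 1 := by
    rw [ek]
    simp only [map_mul, det_refl]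
    simp
  have hc2 := chi_sq (2 : F)
  have hcν := chi_sq ν
  have c2ν : chi (2 * ν) = chi (2 : F) * chi ν := chi_mul h2 hν
  have hsy : spin Q y = chi (s : F) := by
    simp only [y, map_mul, spin_rO h2, hsub _ _ d01 h01, hsub _ _ d23 h23, hsub _ _ d45 h45, q0, q2,
      q4, q8, hg9, mul_one, chi_one]
    rw [← hs]
    simp only [neg_mul_neg, mul_one, hc2, one_mul]
  have hsk : spin Q k = 1 := by
    simp only [k, map_mul, spin_rO h2, hsub _ _ d68 h68, hsub _ _ d79 h79, q1, q3,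
      q5, q6, hg7, mul_one, chi_one, c2ν]
    calc _ = (chi (2 : F) * chi (2 : F)) * (chi ν * chi ν) := by
          simp only [mul_one, one_mul, neg_mul, mul_neg, neg_neg, mul_assoc]
      _ = 1 := by rw [hc2, hcν, mul_one]
  refine ⟨k, mem_Om_of_odd h2 hG k.2 hdk hsk, y, (cl_iff h2 hG).2 ⟨y.2, hdy, hsy⟩, ?_, ?_⟩
  · have hky : (k : V ≃ₗ[F] V) * (y : V ≃ₗ[F] V) =
        LinearEquiv.neg F * (y : V ≃ₗ[F] V) * (k : V ≃ₗ[F] V) := by
      rw [ey, ek]
      apply b.ext'
      intro i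
      rw [hb]
      simp only [LinearEquiv.mul_apply, LinearEquiv.neg_apply]
      fin_cases i <;> simp [hs', hn, a01, b01, c01, a23, b23, c23, a45, b45, c45, a68, b68, c68, a79, b79, c79]
    rw [hky]
    group
  · rw [ey]
    apply b.ext'
    intro i
    rw [hb]
    simp only [LinearEquiv.mul_apply]
    fin_cases i <;> simp [hs', hn, a01, b01, c01, a23, b23, c23, a45, b45, c45]

/-- If `-1 ∈ Ω` in dimension ten there is an orthonormal family of ten vectors. -/
theorem exists_orthonormal_ten (h2 : (2 : F) ≠ 0) (hQ : Nondeg Q) (hd : Module.finrank F V = 10)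
    (h : (LinearEquiv.neg F : V ≃ₗ[F] V) ∈ ⁅O Q, O Q⁆) :
    ∃ e : Fin 10 → V, (∀ i, Q (e i) = 1) ∧ ∀ i j, i ≠ j → polar Q (e i) (e j) = 0 := by
  obtain ⟨e, he, ho⟩ := exists_orthonormal h2 hQ 9 (by omega)
  obtain ⟨v, hv, hev⟩ := exists_nonsing_perp h2 hQ e (fun i => by rw [he i]; exact one_ne_zero) ho
    (by omega)
  let f : Fin 10 → V := Fin.cons v e
  have f0 : f 0 = v := rfl
  have fs : ∀ i : Fin 9, f i.succ = e i := fun i => rfl
  have hf : ∀ i, Q (f i) ≠ 0 := by
    intro i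
    refine Fin.cases ?_ (fun i => ?_) i
    · rw [f0]; exact hv
    · rw [fs, he]; exact one_ne_zero
  have hfo : ∀ i j, i ≠ j → polar Q (f i) (f j) = 0 := by
    intro i j
    refine Fin.cases ?_ (fun i => ?_) i
    · refine Fin.cases ?_ (fun j => ?_) j
      · intro h; exact absurd rfl h
      · intro _
        rw [f0, fs, polar_comm]; exact hev j
    · refine Fin.cases ?_ (fun j => ?_) j
      · intro _
        rw [f0, fs]; exact hev i
      · intro h
        rw [fs, fs]; exact ho i j (fun h' => h (by rw [h']))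
  have h1 := prod_eq_one_of_neg_mem h2 hd (by norm_num) f hf hfo h
  rw [Fin.prod_univ_succ] at h1
  simp only [fs, f0, he, chi_one, Finset.prod_const, Finset.card_univ, Fintype.card_fin] at h1
  have h3 : chi (Q v) = 1 := by
    rcases Int.units_eq_one_or (chi (Q v)) with h | h
    · exact h
    · rw [h] at h1
      exact absurd h1 (by decide)
  obtain ⟨c, hc⟩ := (chi_eq_one_iff _).1 h3
  have hc0 : c ≠ 0 := by
    rintro rfl
    rw [mul_zero] at hc
    exact hv hc
  refine ⟨Fin.cons (c⁻¹ • v) e, ?_, ?_⟩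
  · intro i
    refine Fin.cases ?_ (fun i => ?_) i
    · rw [Fin.cons_zero, QuadraticMap.map_smul, hc, smul_eq_mul]
      field_simp
    · rw [Fin.cons_succ]; exact he i
  · intro i j
    refine Fin.cases ?_ (fun i => ?_) i
    · refine Fin.cases ?_ (fun j => ?_) j
      · intro h; exact absurd rfl h
      · intro _
        rw [Fin.cons_zero, Fin.cons_succ, polar_comm, polar_smul_right, hev j, smul_zero]
    · refine Fin.cases ?_ (fun j => ?_) j
      · intro _
        rw [Fin.cons_zero, Fin.cons_succ, polar_smul_right, hev i, smul_zero]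
      · intro h
        rw [Fin.cons_succ, Fin.cons_succ]; exact ho i j (fun h' => h (by rw [h']))

end Fin

/-- **`-1` in dimension ten.** -/
theorem neg_ten [Finite F] [FiniteDimensional F V] (h2 : (2 : F) ≠ 0) (hQ : Nondeg Q)
    (hd : Module.finrank F V = 10) (h : (LinearEquiv.neg F : V ≃ₗ[F] V) ∈ ⁅O Q, O Q⁆) (s : Fˣ) :
    ∃ k ∈ Om Q, ∃ y, Cl Q s y ∧ (LinearEquiv.neg F : V ≃ₗ[F] V) = k * y * k⁻¹ * y⁻¹ ∧
      y * y * (y * y) = 1 := by
  have : Finite V := Module.finite_of_finite F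
  have := Fintype.ofFinite F
  have hG : Good Q := good_of_finite hQ (by omega)
  obtain ⟨e, he, ho⟩ := exists_orthonormal_ten h2 hQ hd h
  have hν : (2 * (s : F)) ≠ 0 := mul_ne_zero h2 s.ne_zero
  obtain ⟨a, b, hab⟩ : ∃ a b : F, a ^ 2 + b ^ 2 = 2 * (s : F) := by
    obtain ⟨a, b, hab⟩ := exists_rep_one h2 (inv_ne_zero hν) (inv_ne_zero hν)
    refine ⟨a, b, ?_⟩
    rw [← mul_add] at hab
    exact (inv_mul_eq_one₀ hν).1 hab |>.symm
  let g : Fin 10 → V := fun i => if i = 7 then a • e 7 + b • e 9 else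
    if i = 9 then (-b) • e 7 + a • e 9 else e i
  have g7 : g 7 = a • e 7 + b • e 9 := rfl
  have g9 : g 9 = (-b) • e 7 + a • e 9 := rfl
  have gi : ∀ i, i ≠ 7 → i ≠ 9 → g i = e i := fun i h7 h9 => by
    simp only [g, if_neg h7, if_neg h9]
  have h79 : polar Q (a • e 7 + b • e 9) ((-b) • e 7 + a • e 9) = 0 := by
    rw [polar_add_right, polar_add_left, polar_add_left, polar_smul_left, polar_smul_left,
      polar_smul_left, polar_smul_left, polar_smul_right, polar_smul_right, polar_smul_right,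
      polar_smul_right, ho 7 9 (by decide), ho 9 7 (by decide), polar_self', polar_self', he, he]
    simp only [smul_eq_mul]
    ring
  have l1 : ∀ (c d : F) (i : Fin 10), i ≠ 7 → i ≠ 9 → polar Q (e i) (c • e 7 + d • e 9) = 0 := by
    intro c d i h7 h9
    rw [polar_add_right, polar_smul_right, polar_smul_right, ho i 7 h7, ho i 9 h9]
    simp
  have l2 : ∀ (c d : F) (i : Fin 10), i ≠ 7 → i ≠ 9 → polar Q (c • e 7 + d • e 9) (e i) = 0 := by
    intro c d i h7 h9
    rw [polar_comm]; exact l1 c d i h7 h9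
  refine neg_ten_core h2 hG hd g hν ?_ ?_ ?_ ?_ ?_
  · intro i h7 h9
    rw [gi i h7 h9]; exact he i
  · rw [g7, Q_add, QuadraticMap.map_smul, QuadraticMap.map_smul, he, he, polar_smul_left,
      polar_smul_right, ho 7 9 (by decide), ← hab]
    simp only [smul_eq_mul]
    ring
  · rw [g9, Q_add, QuadraticMap.map_smul, QuadraticMap.map_smul, he, he, polar_smul_left,
      polar_smul_right, ho 7 9 (by decide), ← hab]
    simp only [smul_eq_mul]
    ring
  · intro i j hij
    by_cases i7 : i = 7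
    · subst i7
      rw [g7]
      by_cases j9 : j = 9
      · subst j9
        rw [g9]; exact h79
      · rw [gi j (Ne.symm hij) j9]
        exact l2 _ _ _ (Ne.symm hij) j9
    · by_cases i9 : i = 9
      · subst i9
        rw [g9]
        by_cases j7 : j = 7
        · subst j7
          rw [g7, polar_comm]; exact h79
        · rw [gi j j7 (Ne.symm hij)]
          exact l2 _ _ _ j7 (Ne.symm hij)
      · rw [gi i i7 i9]
        by_cases j7 : j = 7
        · subst j7
          rw [g7]; exact l1 _ _ _ i7 i9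
        · by_cases j9 : j = 9
          · subst j9
            rw [g9]; exact l1 _ _ _ i7 i9
          · rw [gi j j7 j9]; exact ho i j hij
  · rw [← chi_mul h2 hν]
    have : (2 * (2 * (s : F))) = (2 * 2) * (s : F) := by ring
    rw [this, chi_mul (mul_ne_zero h2 h2) s.ne_zero, (chi_eq_one_iff (2 * 2 : F)).2 ⟨2, rfl⟩, one_mul]

end Cfsg.Agent.H141.NegTen
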