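import Mathlib

/-!
# An elementary abelian group of order `16` with conjugate involutions has no faithful module of dimension `< 15`

Characteristic different from `2`. Only dimensions of fixed spaces are used.
-/

set_option autoImplicit false

namespace Cfsg.Agent.H141.E16

open Module

universe u v

section

variable {F : Type u} [Field F] {V : Type v} [AddCommGroup V] [Module F V] [FiniteDimensional F V]

/-- fixed space -/
def fx (g : End F V) : Submodule F V := LinearMap.ker (g - 1)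

/-- negated space -/
def ng (g : End F V) : Submodule F V := LinearMap.ker (g + 1)

omit [FiniteDimensional F V] in
theorem mem_fx {g : End F V} {v : V} : v ∈ fx g ↔ g v = v := by
  rw [fx, LinearMap.mem_ker, LinearMap.sub_apply, Module.End.one_apply, sub_eq_zero]

omit [FiniteDimensional F V] in
theorem mem_ng {g : End F V} {v : V} : v ∈ ng g ↔ g v = -v := by
  rw [ng, LinearMap.mem_ker, LinearMap.add_apply, Module.End.one_apply, add_eq_zero_iff_eq_neg]

/-- dimension -/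
noncomputable def dm (W : Submodule F V) : ℕ := finrank F W

theorem split (h2 : (2 : F) ≠ 0) {g : End F V} (hg : g * g = 1) {W : Submodule F V} (hW : ∀ v ∈ W, g v ∈ W) :
    dm W = dm (W ⊓ fx g) + dm (W ⊓ ng g) := by
  have hsup : (W ⊓ fx g) ⊔ (W ⊓ ng g) = W := by
    apply le_antisymm (sup_le inf_le_left inf_le_left)
    intro v hv
    have hgg : g (g v) = v := by
      rw [← Module.End.mul_apply, hg, Module.End.one_apply]
    have h1 : (2 : F)⁻¹ • (v + g v) ∈ W ⊓ fx g := by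
      refine ⟨W.smul_mem _ (W.add_mem hv (hW v hv)), mem_fx.2 ?_⟩
      rw [map_smul, map_add, hgg, add_comm]
    have h3 : (2 : F)⁻¹ • (v - g v) ∈ W ⊓ ng g := by
      refine ⟨W.smul_mem _ (W.sub_mem hv (hW v hv)), mem_ng.2 ?_⟩
      rw [map_smul, map_sub, hgg, ← smul_neg, neg_sub]
    have h4 : v = (2 : F)⁻¹ • (v + g v) + (2 : F)⁻¹ • (v - g v) := by
      rw [← smul_add, show v + g v + (v - g v) = (2 : F) • v by rw [two_smul]; abel, smul_smul,
        inv_mul_cancel₀ h2, one_smul]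
    rw [h4]
    exact Submodule.add_mem_sup h1 h3
  have hinf : (W ⊓ fx g) ⊓ (W ⊓ ng g) = ⊥ := by
    rw [eq_bot_iff]
    rintro v ⟨⟨-, h1⟩, -, h3⟩
    have h4 : g v = v := mem_fx.1 h1
    have h5 : g v = -v := mem_ng.1 h3
    rw [Submodule.mem_bot]
    have h6 : (2 : F) • v = 0 := by
      rw [two_smul]
      nth_rewrite 1 [← h4]
      rw [h5, neg_add_cancel]
    exact (smul_eq_zero.1 h6).resolve_left h2
  have := Submodule.finrank_sup_add_finrank_inf_eq (W ⊓ fx g) (W ⊓ ng g)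
  rw [hsup, hinf, finrank_bot, add_zero] at this
  exact this

/-- **Klein four groups.** -/
theorem klein (h2 : (2 : F) ≠ 0) {b c : End F V} (hb : b * b = 1) (hc : c * c = 1) (hbc : b * c = c * b)
    {W : Submodule F V} (hWb : ∀ v ∈ W, b v ∈ W) (hWc : ∀ v ∈ W, c v ∈ W) :
    dm W + 2 * dm (W ⊓ fx b ⊓ fx c) =
      dm (W ⊓ fx b) + dm (W ⊓ fx c) +
        dm (W ⊓ fx (b * c)) := by
  have ev : ∀ v, b (c v) = c (b v) := fun v => by
    rw [← Module.End.mul_apply, hbc, Module.End.mul_apply]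
  have hbb : ∀ v, b (b v) = v := fun v => by rw [← Module.End.mul_apply, hb, Module.End.one_apply]
  have hbc2 : b * c * (b * c) = 1 := by
    rw [← mul_assoc, hbc, mul_assoc c b b, hb, mul_one, hc]
  have e0 := split h2 hb hWb
  have s1 : ∀ v ∈ W ⊓ fx b, c v ∈ W ⊓ fx b := fun v hv => ⟨hWc v hv.1, mem_fx.2 (by
    rw [ev, mem_fx.1 hv.2])⟩
  have s2 : ∀ v ∈ W ⊓ ng b, c v ∈ W ⊓ ng b := fun v hv => ⟨hWc v hv.1, mem_ng.2 (by
    rw [ev, mem_ng.1 hv.2, map_neg])⟩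
  have s3 : ∀ v ∈ W ⊓ fx c, b v ∈ W ⊓ fx c := fun v hv => ⟨hWb v hv.1, mem_fx.2 (by
    rw [← ev, mem_fx.1 hv.2])⟩
  have s4 : ∀ v ∈ W ⊓ fx (b * c), b v ∈ W ⊓ fx (b * c) := fun v hv => ⟨hWb v hv.1, mem_fx.2 (by
    have := mem_fx.1 hv.2
    rw [Module.End.mul_apply] at this ⊢
    rw [← ev, this])⟩
  have e1 := split h2 hc s1
  have e2 := split h2 hc s2
  have e3 := split h2 hb s3
  have e4 := split h2 hb s4
  have t1 : W ⊓ fx c ⊓ fx b = W ⊓ fx b ⊓ fx c := inf_right_comm _ _ _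
  have t2 : W ⊓ fx c ⊓ ng b = W ⊓ ng b ⊓ fx c := inf_right_comm _ _ _
  have t3 : W ⊓ fx (b * c) ⊓ fx b = W ⊓ fx b ⊓ fx c := by
    ext v
    simp only [Submodule.mem_inf, mem_fx, Module.End.mul_apply]
    constructor
    · rintro ⟨⟨h, h1⟩, h3⟩
      refine ⟨⟨h, h3⟩, ?_⟩
      rw [ev, h3] at h1
      exact h1
    · rintro ⟨⟨h, h1⟩, h3⟩
      exact ⟨⟨h, by rw [h3, h1]⟩, h1⟩
  have t4 : W ⊓ fx (b * c) ⊓ ng b = W ⊓ ng b ⊓ ng c := by
    ext v
    simp only [Submodule.mem_inf, mem_fx, mem_ng, Module.End.mul_apply]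
    constructor
    · rintro ⟨⟨h, h1⟩, h3⟩
      refine ⟨⟨h, h3⟩, ?_⟩
      rw [ev, h3, map_neg] at h1
      rw [← neg_eq_iff_eq_neg, h1]
    · rintro ⟨⟨h, h1⟩, h3⟩
      exact ⟨⟨h, by rw [h3, map_neg, h1, neg_neg]⟩, h1⟩
  rw [t1, t2] at e3
  rw [t3, t4] at e4
  omega

end

/-- fixed spaces of conjugates -/
theorem dm_conj {F : Type u} [Field F] {V : Type v} [AddCommGroup V] [Module F V] {G : Type*} [Group G]
    (φ : G →* End F V) (g x : G) : dm (fx (φ (g * x * g⁻¹))) = dm (fx (φ x)) := by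
  have h1 : ∀ v, φ g (φ g⁻¹ v) = v := fun v => by
    rw [← Module.End.mul_apply, ← map_mul, mul_inv_cancel, map_one, Module.End.one_apply]
  have h3 : ∀ v, φ g⁻¹ (φ g v) = v := fun v => by
    rw [← Module.End.mul_apply, ← map_mul, inv_mul_cancel, map_one, Module.End.one_apply]
  let e : V ≃ₗ[F] V := LinearEquiv.ofLinearMap (φ g) (φ g⁻¹) (LinearMap.ext h1) (LinearMap.ext h3)
  have h4 : fx (φ (g * x * g⁻¹)) = (fx (φ x)).map (e : V →ₗ[F] V) := by
    ext v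
    rw [Submodule.mem_map, mem_fx]
    constructor
    · intro h
      refine ⟨φ g⁻¹ v, mem_fx.2 ?_, h1 v⟩
      rw [map_mul, map_mul, Module.End.mul_apply, Module.End.mul_apply] at h
      have := congrArg (φ g⁻¹) h
      rwa [h3] at this
    · rintro ⟨w, hw, rfl⟩
      rw [mem_fx] at hw
      show φ (g * x * g⁻¹) (φ g w) = φ g w
      rw [map_mul, map_mul, Module.End.mul_apply, Module.End.mul_apply, h3, hw]
  rw [h4]
  exact LinearEquiv.finrank_map_eq e (fx (φ x))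

theorem arith {n f1 x2 x3 x4 x5 x6 x7 x8 y1 y2 y3 z : ℕ} (hn : n < 15) (hle : f1 ≤ n)
    (h12 : n + 2 * x2 = 3 * f1) (h13 : n + 2 * x3 = 3 * f1) (h14 : n + 2 * x4 = 3 * f1) (h15 : n + 2 * x5 = 3 * f1)
    (h16 : n + 2 * x6 = 3 * f1) (h17 : n + 2 * x7 = 3 * f1) (h18 : n + 2 * x8 = 3 * f1)
    (g1 : f1 + 2 * y1 = x2 + x3 + x4) (g2 : f1 + 2 * y2 = x2 + x5 + x6) (g3 : f1 + 2 * y3 = x2 + x7 + x8)
    (k4 : x2 + 2 * z = y1 + y2 + y3) : f1 = n := by
  omega

/-- **The bound.** A commuting family of involutions closed under products, all with fixed spaces of the same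
dimension, four of them independent. -/
theorem bound {F : Type u} [Field F] {V : Type v} [AddCommGroup V] [Module F V] [FiniteDimensional F V]
    (h2 : (2 : F) ≠ 0) (hn : finrank F V < 15) {E : Type*} [CommGroup E] (hE : ∀ x : E, x * x = 1)
    (φ : E →* End F V) {f1 : ℕ} (hf : ∀ x : E, x ≠ 1 → dm (fx (φ x)) = f1)
    {a b c d : E} (ha : a ≠ 1) (hb : b ≠ 1) (hab : a * b ≠ 1) (hc : c ≠ 1) (hac : a * c ≠ 1) (hbc : b * c ≠ 1)
    (habc : a * b * c ≠ 1) (hd : d ≠ 1) (had : a * d ≠ 1) (hbd : b * d ≠ 1) (hcd : c * d ≠ 1)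
    (habd : a * b * d ≠ 1) (hacd : a * (c * d) ≠ 1) (hbcd : b * (c * d) ≠ 1) (habcd : a * b * (c * d) ≠ 1) :
    φ a = 1 := by
  have hφ2 : ∀ x, φ x * φ x = 1 := fun x => by rw [← map_mul, hE, map_one]
  have hφc : ∀ x y, φ x * φ y = φ y * φ x := fun x y => by rw [← map_mul, mul_comm, map_mul]
  have ev : ∀ x y v, φ x (φ y v) = φ y (φ x v) := fun x y v => by
    rw [← Module.End.mul_apply, hφc, Module.End.mul_apply]
  have k2 : ∀ x y : E, x ≠ 1 → y ≠ 1 → x * y ≠ 1 →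
      dm (⊤ : Submodule F V) + 2 * dm (fx (φ x) ⊓ fx (φ y)) = 3 * f1 := by
    intro x y hx hy hxy
    have := klein h2 (hφ2 x) (hφ2 y) (hφc x y) (W := ⊤) (fun _ _ => trivial) (fun _ _ => trivial)
    rw [top_inf_eq, top_inf_eq, top_inf_eq, ← map_mul, hf x hx, hf y hy, hf _ hxy] at this
    omega
  have k3 : ∀ x y z : E, x ≠ 1 → y ≠ 1 → z ≠ 1 → x * y ≠ 1 → x * z ≠ 1 → y * z ≠ 1 → x * (y * z) ≠ 1 →
      f1 + 2 * dm (fx (φ x) ⊓ fx (φ y) ⊓ fx (φ z)) =
        dm (fx (φ x) ⊓ fx (φ y)) + dm (fx (φ x) ⊓ fx (φ z)) +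
          dm (fx (φ x) ⊓ fx (φ (y * z))) := by
    intro x y z hx hy hz hxy hxz hyz hxyz
    have s : ∀ w : E, ∀ v ∈ fx (φ x), φ w v ∈ fx (φ x) := fun w v hv => mem_fx.2 (by
      rw [ev, mem_fx.1 hv])
    have := klein h2 (hφ2 y) (hφ2 z) (hφc y z) (W := fx (φ x)) (s y) (s z)
    rw [← map_mul, hf x hx] at this
    exact this
  have k4 : dm (fx (φ a) ⊓ fx (φ b)) +
      2 * dm (fx (φ a) ⊓ fx (φ b) ⊓ fx (φ c) ⊓ fx (φ d)) =
        dm (fx (φ a) ⊓ fx (φ b) ⊓ fx (φ c)) +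
        dm (fx (φ a) ⊓ fx (φ b) ⊓ fx (φ d)) +
        dm (fx (φ a) ⊓ fx (φ b) ⊓ fx (φ (c * d))) := by
    have s : ∀ w : E, ∀ v ∈ fx (φ a) ⊓ fx (φ b), φ w v ∈ fx (φ a) ⊓ fx (φ b) := fun w v hv =>
      ⟨mem_fx.2 (by rw [ev, mem_fx.1 hv.1]), mem_fx.2 (by rw [ev, mem_fx.1 hv.2])⟩
    have := klein h2 (hφ2 c) (hφ2 d) (hφc c d) (W := fx (φ a) ⊓ fx (φ b)) (s c) (s d)
    rw [← map_mul] at this
    exact this
  have h12 := k2 a b ha hb hab
  have h13 := k2 a c ha hc hac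
  have h14 := k2 a (b * c) ha hbc (by rwa [← mul_assoc])
  have h15 := k2 a d ha hd had
  have h16 := k2 a (b * d) ha hbd (by rwa [← mul_assoc])
  have h17 := k2 a (c * d) ha hcd hacd
  have h18 := k2 a (b * (c * d)) ha hbcd (by rwa [← mul_assoc])
  have g1 := k3 a b c ha hb hc hab hac hbc (by rwa [← mul_assoc])
  have g2 := k3 a b d ha hb hd hab had hbd (by rwa [← mul_assoc])
  have g3 := k3 a b (c * d) ha hb hcd hab hacd hbcd (by rwa [← mul_assoc])
  have hT : dm (⊤ : Submodule F V) = finrank F V := finrank_top F V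
  have hle : f1 ≤ finrank F V := by rw [← hf a ha]; exact Submodule.finrank_le _
  rw [hT] at h12 h13 h14 h15 h16 h17 h18
  have hfull : f1 = finrank F V := arith hn hle h12 h13 h14 h15 h16 h17 h18 g1 g2 g3 k4
  have htop : fx (φ a) = ⊤ := Submodule.eq_top_of_finrank_eq (by rw [← hfull]; exact hf a ha)
  apply LinearMap.ext
  intro v
  have : v ∈ fx (φ a) := by rw [htop]; trivial
  rw [mem_fx.1 this, Module.End.one_apply]

end Cfsg.Agent.H141.E16
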