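import Cfsg.Agent.H141.ElemSixteen
import Cfsg.Agent.H203.LSChev
import Cfsg.Agent.H912.MultChar
import Cfsg.Agent.H915.LD
import Cfsg.Agent.S1679

/-!
# `G₂(4)` and `Suz` have no faithful linear representation of degree `< 15` in odd characteristic
-/

set_option autoImplicit false

namespace Cfsg.Agent.H141.G24

open Cfsg Cfsg.Lie Cfsg.Lie.ChevalleyDatum Cfsg.Agent.ChevalleyStructure Cfsg.Agent.ChevalleyStructure.Elts
  Cfsg.Agent.Omega.TwoF.ChevHeis Cfsg.Agent.H203.LS.Chev Module Matrix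

universe u v

theorem b1 : br chevG2 10 6 11 (-1) = true := by decide +kernel
theorem b2 : br chevG2 11 5 10 1 = true ∨ br chevG2 11 5 10 (-1) = true := by decide +kernel
theorem c1 : cm chevG2 11 6 = true ∧ cm chevG2 10 5 = true ∧ cm chevG2 10 11 = true := by decide +kernel
theorem nr : (11 : ℕ) < chevG2.nroots ∧ (10 : ℕ) < chevG2.nroots ∧ (6 : ℕ) < chevG2.nroots ∧
    (5 : ℕ) < chevG2.nroots := by decide
theorem ct : chevG2.cartan 1 10 = -1 := by decide +kernel
theorem rk : (1 : ℕ) < chevG2.rank := by decide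
theorem inL : InList chevG2 := by simp

variable {K : Type} [Field K]

/-- the elementary abelian group -/
def e16 : Multiplicative (K × K) →* chevG2.group K where
  toFun v := xK inL 10 v.toAdd.1 * xK inL 11 v.toAdd.2
  map_one' := by
    show xK inL 10 (0 : K) * xK inL 11 (0 : K) = 1
    rw [xK_zero, xK_zero, mul_one]
  map_mul' v w := by
    show xK inL 10 (v.toAdd.1 + w.toAdd.1) * xK inL 11 (v.toAdd.2 + w.toAdd.2) = _
    rw [xK_add, xK_add]
    have := xK_commute inL nr.2.1 nr.1 c1.2.2 w.toAdd.1 v.toAdd.2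
    calc xK inL 10 v.toAdd.1 * xK inL 10 w.toAdd.1 * (xK inL 11 v.toAdd.2 * xK inL 11 w.toAdd.2)
        = xK inL 10 v.toAdd.1 * (xK inL 10 w.toAdd.1 * xK inL 11 v.toAdd.2) * xK inL 11 w.toAdd.2 := by group
      _ = xK inL 10 v.toAdd.1 * (xK inL 11 v.toAdd.2 * xK inL 10 w.toAdd.1) * xK inL 11 w.toAdd.2 := by rw [this]
      _ = _ := by group

theorem e16_apply (a b : K) : e16 (Multiplicative.ofAdd (a, b)) = xK inL 10 a * xK inL 11 b := rfl

theorem conj_a {a : K} (ha : a ≠ 0) : ∃ g : chevG2.group K, xK inL 10 a = g * xK inL 10 1 * g⁻¹ := by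
  refine ⟨(hK inL 1 a)⁻¹, ?_⟩
  have := hK_conj inL rk nr.2.1 ha a
  rw [ct, _root_.zpow_neg_one, inv_mul_cancel₀ ha] at this
  rw [← this]
  group

theorem conj_ab {a b : K} (ha : a ≠ 0) :
    ∃ g : chevG2.group K, e16 (Multiplicative.ofAdd (a, b)) = g * xK inL 10 1 * g⁻¹ := by
  obtain ⟨g, hg⟩ := conj_a ha
  refine ⟨xK inL 6 (b / a) * g, ?_⟩
  have h1 := xK_br inL b1 a (b / a)
  have h2 : -(((-1 : ℤ) : K) * a * (b / a)) = b := by
    push_cast
    field_simp
  rw [h2] at h1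
  have h3 := xK_commute inL nr.1 nr.2.2.1 c1.1 b (b / a)
  rw [e16_apply]
  calc xK inL 10 a * xK inL 11 b
      = xK inL 10 a * (xK inL 11 b * xK inL 6 (b / a)) * (xK inL 6 (b / a))⁻¹ := by group
    _ = xK inL 10 a * xK inL 6 (b / a) * xK inL 11 b * (xK inL 6 (b / a))⁻¹ := by rw [h3]; group
    _ = xK inL 6 (b / a) * xK inL 10 a * (xK inL 6 (b / a))⁻¹ := by rw [← h1]
    _ = _ := by rw [hg]; group

theorem conj_all {a b : K} (hv : a ≠ 0 ∨ b ≠ 0) :
    ∃ g : chevG2.group K, e16 (Multiplicative.ofAdd (a, b)) = g * xK inL 10 1 * g⁻¹ := by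
  by_cases ha : a = 0
  · have hb : b ≠ 0 := hv.resolve_left (fun h => h ha)
    subst ha
    obtain ⟨m, hm, hm0⟩ : ∃ m : ℤ, br chevG2 11 5 10 m = true ∧ (m : K) ≠ 0 := by
      rcases b2 with h | h
      · exact ⟨1, h, by simp⟩
      · exact ⟨-1, h, by simp⟩
    have h1 := xK_br inL hm b 1
    have h3 := xK_commute inL nr.2.1 nr.2.2.2 c1.2.1 (-((m : K) * b * 1)) 1
    have h4 := xK_commute inL nr.2.1 nr.1 c1.2.2 (-((m : K) * b * 1)) b
    have h5 : -((m : K) * b * 1) ≠ 0 := neg_ne_zero.2 (mul_ne_zero (mul_ne_zero hm0 hb) one_ne_zero)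
    obtain ⟨g, hg⟩ := conj_ab (b := b) h5
    refine ⟨(xK inL 5 1)⁻¹ * g, ?_⟩
    rw [e16_apply] at hg ⊢
    rw [xK_zero, one_mul]
    calc xK inL 11 b = (xK inL 5 1)⁻¹ * (xK inL 5 1 * xK inL 11 b) := by group
      _ = (xK inL 5 1)⁻¹ * (xK inL 11 b * (xK inL 5 1 * xK inL 10 (-((m : K) * b * 1)))) := by rw [h1, mul_assoc]
      _ = (xK inL 5 1)⁻¹ * ((xK inL 11 b * xK inL 10 (-((m : K) * b * 1))) * xK inL 5 1) := by
          rw [← h3]; group
      _ = (xK inL 5 1)⁻¹ * ((xK inL 10 (-((m : K) * b * 1)) * xK inL 11 b) * xK inL 5 1) := by rw [h4]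
      _ = _ := by rw [hg]; group
  · exact conj_ab ha

/-- `G₂(4)` has no faithful linear representation of degree `< 15` in odd characteristic. -/
theorem g24_lt [Fintype K] (hK : Fintype.card K = 4) {F : Type u} [Field F] (h2 : (2 : F) ≠ 0) {n : ℕ}
    (hn : n < 15) (ρ : chevG2.group K →* GL (Fin n) F) : ¬ Function.Injective ρ := by
  intro hinj
  have hc : (Fintype.card K : K) = 0 := FiniteField.cast_card_eq_zero K
  have h20 : (2 : K) = 0 := by
    rw [hK] at hc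
    have : (2 : K) * 2 = 0 := by
      rw [← hc]; norm_num
    exact mul_self_eq_zero.1 this
  have hxx : ∀ x : K, x + x = 0 := fun x => by rw [← two_mul, h20, zero_mul]
  have h11 : ∀ x : K, 1 + x = 0 → x = 1 := fun x h => by
    have := hxx 1
    exact (add_left_cancel (h.trans this.symm))
  obtain ⟨w, hw0, hw1⟩ : ∃ w : K, w ≠ 0 ∧ w ≠ 1 := by
    classical
    have hlt : ({0, 1} : Finset K).card < (Finset.univ : Finset K).card := by
      rw [Finset.card_univ, hK]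
      exact lt_of_le_of_lt Finset.card_le_two (by norm_num)
    obtain ⟨w, -, hw⟩ := Finset.exists_mem_notMem_of_card_lt_card hlt
    simp only [Finset.mem_insert, Finset.mem_singleton, not_or] at hw
    exact ⟨w, hw.1, hw.2⟩
  have hw2 : 1 + w ≠ 0 := fun h => hw1 (h11 w h)
  let Φ : chevG2.group K →* End F (Fin n → F) :=
    (((Matrix.toLinAlgEquiv' (R := F) (n := Fin n)) : Matrix (Fin n) (Fin n) F →* _).comp
      (Units.coeHom _)).comp ρ
  have hΦ : Function.Injective Φ := by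
    intro x y h
    apply hinj
    apply Units.ext
    exact (Matrix.toLinAlgEquiv' (R := F) (n := Fin n)).injective h
  have hne : ∀ a b : K, a ≠ 0 ∨ b ≠ 0 → (Multiplicative.ofAdd (a, b) : Multiplicative (K × K)) ≠ 1 := by
    intro a b h h1
    have h3 : (a, b) = (0, 0) := h1
    rw [Prod.mk.injEq] at h3
    rcases h with h | h
    · exact h h3.1
    · exact h h3.2
  have key := E16.bound (F := F) (V := Fin n → F) h2 (by rw [finrank_fin_fun]; exact hn)
    (E := Multiplicative (K × K)) (fun x => by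
      show Multiplicative.ofAdd (x.toAdd + x.toAdd) = 1
      have h0 : x.toAdd + x.toAdd = 0 := Prod.ext (hxx x.toAdd.1) (hxx x.toAdd.2)
      rw [h0]
      rfl)
    (Φ.comp e16) (f1 := E16.dm (E16.fx (Φ (xK inL 10 1)))) (fun x hx => by
      have hx' : x.toAdd.1 ≠ 0 ∨ x.toAdd.2 ≠ 0 := by
        by_contra hcon
        push Not at hcon
        apply hx
        show Multiplicative.ofAdd (x.toAdd.1, x.toAdd.2) = 1
        rw [hcon.1, hcon.2]
        rfl
      obtain ⟨g, hg⟩ := conj_all hx'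
      show E16.dm (E16.fx (Φ (e16 (Multiplicative.ofAdd (x.toAdd.1, x.toAdd.2))))) = _
      rw [hg, E16.dm_conj])
    (a := Multiplicative.ofAdd (1, 0)) (b := Multiplicative.ofAdd (w, 0))
    (c := Multiplicative.ofAdd (0, 1)) (d := Multiplicative.ofAdd (0, w))
    (hne _ _ (by simp)) (hne _ _ (by simp [hw0])) (hne (1 + w) (0 + 0) (Or.inl hw2)) (hne _ _ (by simp))
    (hne (1 + 0) (0 + 1) (by simp)) (hne (w + 0) (0 + 1) (by simp)) (hne (1 + w + 0) (0 + 0 + 1) (by simp))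
    (hne _ _ (by simp [hw0])) (hne (1 + 0) (0 + w) (by simp)) (hne (w + 0) (0 + w) (by simp [hw0]))
    (hne (0 + 0) (1 + w) (Or.inr hw2)) (hne (1 + w + 0) (0 + 0 + w) (by simp [hw0]))
    (hne (1 + (0 + 0)) (0 + (1 + w)) (by simp)) (hne (w + (0 + 0)) (0 + (1 + w)) (by simp [hw0]))
    (hne (1 + w + (0 + 0)) (0 + 0 + (1 + w)) (by simp [hw2]))
  have h3 : e16 (Multiplicative.ofAdd ((1 : K), (0 : K))) = 1 := by
    apply hΦ
    rw [map_one]
    exact key
  rw [e16_apply, xK_zero, mul_one] at h3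
  exact one_ne_zero ((xG_eq_one_iff inL nr.2.1 (1 : K)).1 (congrArg Subtype.val h3))

open Cfsg.Agent.H915.LD Cfsg.Geo in
theorem lift {F : Type u} [Field F] {n : ℕ} {P : Subgroup (GL (Fin n) F)}
    (hZ : (scalars (Fin n) F).subgroupOf P = ⊥) {T : Type v} [Group T] (e : Soc P ≃* T) :
    ∃ ρ : T →* GL (Fin n) F, Function.Injective ρ := by
  let e' : P ≃* T := (MulEquiv.ofBijective (toSoc P) ⟨by
    rw [← MonoidHom.ker_eq_bot_iff, ker_toSoc, hZ], toSoc_surjective P⟩).trans e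
  exact ⟨P.subtype.comp e'.symm.toMonoidHom, P.subtype_injective.comp e'.symm.injective⟩

open Cfsg.Agent.H915.LD Cfsg.Geo in
/-- **`G₂(4)`, odd characteristic, trivial scalars, degree `< 15`.** -/
theorem no_g24 {F : Type u} [Field F] {n : ℕ} (hn : n < 15) {P : Subgroup (GL (Fin n) F)} (h2 : (2 : F) ≠ 0)
    (hZ : (scalars (Fin n) F).subgroupOf P = ⊥) : ¬ H912.Bd.IsG2 4 (Soc P) := by
  rintro ⟨K, iK, iF, hK, ⟨e⟩⟩
  obtain ⟨ρ, hρ⟩ := lift hZ e
  exact g24_lt hK h2 hn ρ hρ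

open Cfsg.Agent.H915.LD Cfsg.Geo in
/-- **`Suz`, odd characteristic, trivial scalars, degree `< 15`.** -/
theorem no_suz {F : Type u} [Field F] {n : ℕ} (hn : n < 15) {P : Subgroup (GL (Fin n) F)} (h2 : (2 : F) ≠ 0)
    (hZ : (scalars (Fin n) F).subgroupOf P = ⊥) : ¬ Spor.IsoSuz (Soc P) := by
  rintro ⟨e⟩
  obtain ⟨ρ, hρ⟩ := lift hZ e
  obtain ⟨K, iK, iF, hK, ⟨f⟩⟩ := Cfsg.Agent.S1679.result
  exact g24_lt hK h2 hn (ρ.comp ((Subgroup.subtype _).comp f.symm.toMonoidHom))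
    (hρ.comp ((Subgroup.subtype_injective _).comp f.symm.injective))

end Cfsg.Agent.H141.G24
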